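import Groth.Agent.StackDM.Slice
import Groth.Agent.AlgSpBasic.Unramified
import Groth.Agent.AlgStBasic.PropCalc

/-!
# Unramified morphisms and lifts to thickenings
-/

set_option autoImplicit false
set_option backward.isDefEq.respectTransparency false
set_option backward.isDefEq.respectTransparency.types false

universe u

open CategoryTheory CategoryTheory.Limits AlgebraicGeometry AlgSp

namespace Groth.StackDM

theorem isArtinianRing_dual (K : Type u) [Field K] : IsArtinianRing (TrivSqZeroExt K K) := by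
  have : Module.Finite K (TrivSqZeroExt K K) :=
    Module.Finite.of_surjective
      ({ toFun := fun p : K × K => (TrivSqZeroExt.inl p.1 + TrivSqZeroExt.inr p.2 : TrivSqZeroExt K K)
         map_add' := fun p q => by ext <;> simp
         map_smul' := fun c p => by ext <;> simp } : K × K →ₗ[K] TrivSqZeroExt K K)
      fun x => ⟨(x.fst, x.snd), TrivSqZeroExt.inl_fst_add_inr_snd_eq x⟩
  exact isArtinian_of_tower K inferInstance

theorem isLocalRing_dual (K : Type u) [Field K] : IsLocalRing (TrivSqZeroExt K K) := by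
  refine IsLocalRing.of_nonunits_add fun a b ha hb => ?_
  simp only [mem_nonunits_iff, TrivSqZeroExt.isUnit_iff_isUnit_fst, isUnit_iff_ne_zero, not_not] at *
  simp [ha, hb]

theorem isSimpleModule_ker_dual (K : Type u) [Field K] :
    IsSimpleModule (TrivSqZeroExt K K)
      (RingHom.ker (TrivSqZeroExt.fstHom K K K).toRingHom) := by
  set I := RingHom.ker (TrivSqZeroExt.fstHom K K K).toRingHom
  refine (isSimpleModule_iff _ _).2 ?_
  have hne : (TrivSqZeroExt.inr 1 : TrivSqZeroExt K K) ∈ I := TrivSqZeroExt.fst_inr K 1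
  have : Nontrivial (Submodule (TrivSqZeroExt K K) I) := by
    refine ⟨⊥, ⊤, fun h => ?_⟩
    have h1 : (⟨_, hne⟩ : I) ∈ (⊥ : Submodule (TrivSqZeroExt K K) I) := h ▸ Submodule.mem_top
    have h2 := congrArg (fun z : I => TrivSqZeroExt.snd (z : TrivSqZeroExt K K)) ((Submodule.mem_bot _).1 h1)
    simp at h2
  refine ⟨fun J => ?_⟩
  by_cases hJ : J = ⊥
  · exact Or.inl hJ
  · obtain ⟨⟨a, ha⟩, haJ, ha0⟩ := Submodule.exists_mem_ne_zero_of_ne_bot hJ
    have ha1 : a.fst = 0 := ha
    have ha2 : a.snd ≠ 0 := fun h => ha0 (Subtype.ext (by ext <;> simp [ha1, h]))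
    refine Or.inr (eq_top_iff.2 fun z _ => ?_)
    obtain ⟨z, hz⟩ := z
    have hz1 : z.fst = 0 := hz
    have := J.smul_mem (TrivSqZeroExt.inl (z.snd * a.snd⁻¹) : TrivSqZeroExt K K) haJ
    convert this using 1
    refine Subtype.ext ?_
    ext
    · simp [ha1, hz1]
    · simp [ha1, ha2]

/-- A map whose lifts to dual numbers are unique is formally unramified. -/
theorem formallyUnramified_of_separates {X Y : Scheme.{u}} (a : X ⟶ Y) [LocallyOfFiniteType a]
    (h : Separates a a) : FormallyUnramified a := by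
  refine ⟨fun {U} hU {V} hV e => ?_⟩
  have hft := LocallyOfFiniteType.finiteType_appLE (f := a) hU hV e
  algebraize [(a.appLE U V e).hom]
  have : Algebra.FiniteType Γ(Y, U) Γ(X, V) := hft
  show Algebra.FormallyUnramified Γ(Y, U) Γ(X, V)
  constructor
  by_contra hns
  rw [not_subsingleton_iff_nontrivial] at hns
  obtain ⟨N, hN, -⟩ := (IsCoatomic.eq_top_or_exists_le_coatom
    (⊥ : Submodule Γ(X, V) (Ω[Γ(X, V)⁄Γ(Y, U)]))).resolve_left bot_ne_top
  have hsimple : IsSimpleModule Γ(X, V) (Ω[Γ(X, V)⁄Γ(Y, U)] ⧸ N) := isSimpleModule_iff_isCoatom.2 hN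
  obtain ⟨m, hm, ⟨ψ⟩⟩ := isSimpleModule_iff_quot_maximal.1 hsimple
  letI : Field (Γ(X, V) ⧸ m) := Ideal.Quotient.field m
  have hD : (ψ.toLinearMap.comp N.mkQ).compDer (KaehlerDifferential.D Γ(Y, U) Γ(X, V)) = 0 :=
    derivation_detect h hU hV e e (Γ(X, V) ⧸ m) _ fun c => Derivation.map_algebraMap _ c
  have h0 : ψ.toLinearMap.comp N.mkQ = 0 :=
    Derivation.liftKaehlerDifferential_unique _ _ (by rw [hD]; rfl)
  obtain ⟨q, hq⟩ := ψ.surjective 1
  obtain ⟨w, rfl⟩ := N.mkQ_surjective q
  exact one_ne_zero (hq.symm.trans (LinearMap.congr_fun h0 w))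

variable {S : Scheme.{u}}

/-- Sections agreeing on a surjective subscheme are equal after an unramified map. -/
theorem eq_of_unramified_lifts {F Y : Sp S} (hF : IsAlgSpace F) (hY : IsAlgSpace Y) {π : F ⟶ Y}
    (hπ : LocP ((@LocallyOfFiniteType : MorphismProperty Scheme.{u}) ⊓ @FormallyUnramified) π)
    {D₀ D : Over S} (i : D₀ ⟶ D) [Surjective i.left] {σ₀ σ₁ : (yon S).obj D ⟶ F}
    (h : σ₀ ≫ π = σ₁ ≫ π) (h₀ : (yon S).map i ≫ σ₀ = (yon S).map i ≫ σ₁) : σ₀ = σ₁ := by
  have hd := Groth.AlgSpBasic.repWith_diagonal_of_unramified hF hY hπ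
  obtain ⟨E, snd, fst, sq⟩ := hd.rep (pullback.lift σ₀ σ₁ h)
  have : IsOpenImmersion snd.left := hd.property _ fst snd sq
  obtain ⟨l, hl⟩ := (yon S).map_surjective (sq.lift ((yon S).map i ≫ σ₀) ((yon S).map i) (by
    apply pullback.hom_ext
    · simp
    · simp [h₀]))
  have hli : l ≫ snd = i := (yon S).map_injective (by rw [Functor.map_comp, hl, sq.lift_snd])
  have : Surjective snd.left := ⟨fun z => by
    obtain ⟨z₀, rfl⟩ := i.left.surjective z
    exact ⟨l.left z₀, by rw [← Scheme.Hom.comp_apply, ← Over.comp_left, hli]⟩⟩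
  have : Epi snd.left.base := (TopCat.epi_iff_surjective _).2 snd.left.surjective
  have : IsIso snd.left := IsOpenImmersion.isIso snd.left
  have : IsIso ((Over.forget S).map snd) := inferInstanceAs (IsIso snd.left)
  have : IsIso snd := isIso_of_reflects_iso snd (Over.forget S)
  have e := sq.w =≫ pullback.fst π π
  have e' := sq.w =≫ pullback.snd π π
  simp only [Category.assoc, pullback.diagonal_fst, pullback.diagonal_snd, Category.comp_id,
    pullback.lift_fst, pullback.lift_snd] at e e'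
  exact (cancel_epi ((yon S).map snd)).1 (e.symm.trans e')

end Groth.StackDM
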