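import Groth.Agent.AlgStBasic.Permanence
import Groth.Agent.AlgSpBasic.LocPInst
import Groth.Agent.AlgSpBasic.Unramified

/-!
# The diagonal of a stack with an etale atlas is unramified
-/

set_option autoImplicit false
set_option backward.isDefEq.respectTransparency false
set_option backward.isDefEq.respectTransparency.types false

universe u

open CategoryTheory CategoryTheory.Limits AlgebraicGeometry
open Groth.StkBase Groth.AlgStBasic Groth.AlgSpBasic

noncomputable section

namespace Groth.StackDM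

variable {S : Scheme.{u}} {𝒳 : AlgSt.Cat S}

/-- A right cancellable property of a fppf atlas passes to the diagonal, for any topology. -/
theorem repWith_diag_toSelf_of_cover' {Q : MorphismProperty Scheme.{u}} [EtaleLocal Q]
    (hQ : ∀ ⦃A B C : Scheme.{u}⦄ (a : A ⟶ B) (b : B ⟶ C), Q (a ≫ b) → Q a)
    (h𝒳 : FibCat.IsFibGrpd 𝒳.p) (hd : AlgSt.RepByAlgSp1 (FibCat.diag (FibCat.toSelf 𝒳)))
    {U : Over S} {x : FibCat.overCat U ⥤ᵇ 𝒳} (h₁ : AlgSt.RepByAlgSpWith (AlgSp.LocP @Flat) x)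
    (h₂ : AlgSt.RepByAlgSpWith (AlgSp.LocP @LocallyOfFinitePresentation) x)
    (h₃ : AlgSt.RepByAlgSpWith AlgSp.IsSurjectiveMor x)
    (h₄ : AlgSt.RepByAlgSpWith (AlgSp.LocP Q) x) :
    AlgSt.RepByAlgSpWith (AlgSp.LocP Q) (FibCat.diag (FibCat.toSelf 𝒳)) := by
  have hU : FibCat.IsFibGrpd (FibCat.overCat U).p := isFibGrpd_overCat U
  have hW : AlgSt.RepByAlgSp (FibCat.overCat U : AlgSt.Cat S) := repByAlgSp_overCat U
  let t := FibCat.toSelf 𝒳
  let M := fpPre x x t t
  have hM₁ : AlgSt.RepByAlgSpWith (AlgSp.LocP @Flat) M :=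
    repWith_fpPre hU h𝒳 hU isFibGrpd_selfOver stableBaseChange_locP stableComp_locP
      descendsAlongAtlas_locP x x t t h₁ h₁
  have hM₂ : AlgSt.RepByAlgSpWith (AlgSp.LocP @LocallyOfFinitePresentation) M :=
    repWith_fpPre hU h𝒳 hU isFibGrpd_selfOver stableBaseChange_locP stableComp_locP
      descendsAlongAtlas_locP x x t t h₂ h₂
  have hM₃ : AlgSt.RepByAlgSpWith AlgSp.IsSurjectiveMor M :=
    repWith_fpPre hU h𝒳 hU isFibGrpd_selfOver stableBaseChange_surjective stableComp_surjective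
      descendsAlongAtlas_surjective x x t t h₃ h₃
  refine repWith_of_locally stableBaseChange_locP (isLocalOnBase_fppf_locP _) hd (g := M)
    (fun V z => exists_lift_of_fppf_surjective hM₁ hM₂ hM₃ V z) ?_
  refine (repWith_precomp_equiv (isEquivOver_diagFp' x x t) _).1 ?_
  have hS : AlgSt.RepByAlgSp (FibCat.selfOver (Over S)) := repByAlgSp_selfOver
  let T := FibCat.fpFst (BasedFunctor.comp x t) (BasedFunctor.comp x t)
  have hT : AlgSt.RepByAlgSp1 T :=
    repByAlgSp1_fpFst _ _ (repByAlgSp1_of_repByAlgSp hW hS _)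
  refine repWith_of_comp_cancel (g := T) (isFibGrpd_fp hU hU h𝒳) (isFibGrpd_fp hU hU isFibGrpd_selfOver)
    stableBaseChange_locP (cancelRight_locP hQ)
    ((repByAlgSp1_precomp_iff (isEquivOver_diagFp' x x t) _).2 (repByAlgSp1_fpFst _ _ hd)) hT ?_
  exact repWith_of_iso (Iso.refl _) (repWith_fpFst x x h₄)

/-- A stack with an etale atlas has unramified diagonal. -/
theorem isDMOver_of_hasAtlas_etale (h𝒳 : FibCat.IsFibGrpd 𝒳.p)
    (hd : AlgSt.RepByAlgSp1 (FibCat.diag (FibCat.toSelf 𝒳)))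
    (hat : AlgSt.HasAtlas AlgSp.IsEtaleMor 𝒳) : AlgSt.IsDMOver 𝒳 := by
  obtain ⟨U, x, hx, hxs⟩ := hat
  have he : AlgSt.RepByAlgSpWith (AlgSp.LocP @Etale) x :=
    repWith_mono (fun _ _ _ _ _ h => locP_of_isEtaleMor h) hx
  exact repWith_diag_toSelf_of_cover' (fun _ _ _ a b hab => by
      obtain ⟨_, _⟩ := hab
      exact ⟨locallyOfFiniteType_of_comp a b, FormallyUnramified.of_comp a b⟩) h𝒳 hd
    (repWith_mono (fun _ _ f _ _ h => locP_mono (P := @Etale) (Q := @Flat)
      (fun _ _ g (hg : Etale g) => inferInstance) h) he)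
    (repWith_mono (fun _ _ f _ _ h => locP_mono (P := @Etale) (Q := @LocallyOfFinitePresentation)
      (fun _ _ g (hg : Etale g) => inferInstance) h) he)
    hxs
    (repWith_mono (fun _ _ f _ _ h => locP_mono (P := @Etale) (Q := @LocallyOfFiniteType ⊓ @FormallyUnramified)
      (fun _ _ g (hg : Etale g) => ⟨inferInstance, inferInstance⟩) h) he)

end Groth.StackDM
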