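import Groth.Agent.StackDM.Slice
import Groth.Agent.ResGerbe.QDM.Pairs
import Groth.Agent.AlgSpBasic.CodimZeroFibre
import Groth.Agent.FibreDim.Smooth
import Groth.Agent.EtaleAlgebra.SmoothQuasiFinite
import Groth.Agent.AlgSp2.SmoothDescent

/-!
# Etale atlases of algebraic stacks with unramified diagonal
-/

set_option autoImplicit false
set_option backward.isDefEq.respectTransparency false
set_option backward.isDefEq.respectTransparency.types false

universe u

open CategoryTheory CategoryTheory.Limits AlgebraicGeometry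
open Groth.StkBase Groth.AlgStBasic Groth.StkSlice Groth.ResGerbe.QDM Groth.SmoothSlice

noncomputable section

namespace Groth.StackDM

variable {S : Scheme.{u}} {𝒳 : AlgSt.Cat S}

theorem etale_of_smooth_of_lqf {X Y : Scheme.{u}} (f : X ⟶ Y) [Smooth f] [LocallyQuasiFinite f] :
    Etale f := by
  refine ⟨fun {U} hU {V} hV e => ?_⟩
  have h₁ := f.smooth_appLE hU hV e
  have h₂ := LocallyQuasiFinite.quasiFinite_appLE (f := f) hU hV e
  algebraize [(f.appLE U V e).hom]
  have : Algebra.Smooth Γ(Y, U) Γ(X, V) := h₁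
  have : Algebra.QuasiFinite Γ(Y, U) Γ(X, V) := h₂
  exact Groth.Agent.EtaleAlgebra.SmoothQuasiFinite.etale_of_smooth_of_quasiFinite Γ(Y, U) Γ(X, V)

theorem locallyQuasiFinite_of_fibreDimAt {X Y : Scheme.{u}} (f : X ⟶ Y) [LocallyOfFiniteType f]
    (h : ∀ x, FlatMor.fibreDimAt f x = 0) : LocallyQuasiFinite f := by
  rw [← Scheme.Hom.quasiFiniteLocus_eq_top_iff]
  refine top_le_iff.mp fun x _ => ?_
  show f.QuasiFiniteAt x
  rw [Scheme.Hom.quasiFiniteAt_iff_isOpen_singleton_asFiber,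
    ← Groth.AlgSpBasic.fibreDimAt_zero_iff_isOpen]
  exact h x

/-- An etale chart of the pairs of a smooth chart, unramified over the pairs of points. -/
theorem exists_pair_chart (hX : FibCat.IsFibGrpd 𝒳.p)
    (hq : AlgSt.IsDMOver 𝒳) {U : Over S} {x : FibCat.overCat U ⥤ᵇ 𝒳}
    (hx : AlgSt.RepByAlgSpWith (AlgSp.LocP @Smooth) x) :
    ∃ (R : Over S) (c : R ⟶ sq U) (L : FibCat.overCat R ⥤ᵇ FibCat.fp x x),
      AlgSt.RepByAlgSpWith (AlgSp.LocP @Etale) L ∧
      AlgSt.RepByAlgSpWith AlgSp.IsSurjectiveMor L ∧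
      Nonempty (BasedFunctor.comp L (FibCat.fpFst x x) ≅ AlgSt.overMap (c ≫ sqFst U)) ∧
      Nonempty (BasedFunctor.comp L (FibCat.fpSnd x x) ≅ AlgSt.overMap (c ≫ sqSnd U)) ∧
      Smooth (c ≫ sqFst U).left ∧ Smooth (c ≫ sqSnd U).left ∧
      LocallyOfFiniteType c.left ∧ FormallyUnramified c.left := by
  obtain ⟨M', hM', -, ⟨β⟩⟩ := isEquivOver_symm (isEquivOver_sqFun x)
  have hΦ : AlgSt.RepByAlgSpWith (AlgSp.LocP (@LocallyOfFiniteType ⊓ @FormallyUnramified))
      (BasedFunctor.comp (fpPost x x (FibCat.toSelf 𝒳)) M') :=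
    (repWith_postcomp_equiv _ hM').2 (repWith_fpPost (F := x) (G := x) hq)
  obtain ⟨F, e, he⟩ := repWith_repByAlgSp1 hx U x
  obtain ⟨R, L, hL, hLs⟩ := hasAtlas_of_repByAlgSp (P := @Etale)
    (show AlgSt.RepByAlgSp (FibCat.fp x x) from ⟨F, e, he⟩)
  have hfp : FibCat.IsFibGrpd (FibCat.fp x x).p :=
    isFibGrpd_fp (isFibGrpd_overCat _) (isFibGrpd_overCat _) hX
  obtain ⟨c, ⟨γ⟩⟩ := exists_iso_overMap
    (BasedFunctor.comp L (BasedFunctor.comp (fpPost x x (FibCat.toSelf 𝒳)) M'))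
  have hc : (@LocallyOfFiniteType ⊓ @FormallyUnramified : MorphismProperty Scheme.{u}) c.left := by
    refine left_prop_of_repWith_overMap (repWith_of_iso γ
      (repWith_comp' (isFibGrpd_overCat R) hfp stableBaseChange_locP stableComp_locP
        descendsAlongAtlas_locP ?_ hΦ))
    exact repWith_mono (fun _ _ f _ _ h => Groth.AlgSpBasic.locP_mono (P := @Etale)
      (Q := @LocallyOfFiniteType ⊓ @FormallyUnramified)
      (fun _ _ g (hg : Etale g) => ⟨inferInstance, inferInstance⟩) h) hL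
  let κ : BasedFunctor.comp L (fpPost x x (FibCat.toSelf 𝒳)) ≅
      BasedFunctor.comp (AlgSt.overMap c) (sqFun x) :=
    (whiskerLeftIso (BasedFunctor.comp L (fpPost x x (FibCat.toSelf 𝒳))) β).symm.trans
      (whiskerRightIso γ (sqFun x))
  have α₁ : BasedFunctor.comp L (FibCat.fpFst x x) ≅ AlgSt.overMap (c ≫ sqFst U) :=
    (whiskerRightIso κ (FibCat.fpFst _ _)).trans (nonempty_overMap_comp_iso c (sqFst U)).some
  have α₂ : BasedFunctor.comp L (FibCat.fpSnd x x) ≅ AlgSt.overMap (c ≫ sqSnd U) :=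
    (whiskerRightIso κ (FibCat.fpSnd _ _)).trans (nonempty_overMap_comp_iso c (sqSnd U)).some
  have hLsm : AlgSt.RepByAlgSpWith (AlgSp.LocP @Smooth) L :=
    repWith_mono (fun _ _ f _ _ h => Groth.AlgSpBasic.locP_mono (P := @Etale) (Q := @Smooth)
      (fun _ _ g (hg : Etale g) => inferInstance) h) hL
  refine ⟨R, c, L, hL, hLs, ⟨α₁⟩, ⟨α₂⟩, ?_, ?_, hc.1, hc.2⟩
  · exact left_prop_of_repWith_overMap (P := @Smooth) (repWith_of_iso α₁
      (repWith_comp' (isFibGrpd_overCat R) hfp stableBaseChange_locP stableComp_locP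
        descendsAlongAtlas_locP hLsm (repWith_fpFst _ _ hx)))
  · exact left_prop_of_repWith_overMap (P := @Smooth) (repWith_of_iso α₂
      (repWith_comp' (isFibGrpd_overCat R) hfp stableBaseChange_locP stableComp_locP
        descendsAlongAtlas_locP hLsm (repWith_fpSnd _ _ hx)))

/-- Charts over a scheme covered by etale points of a chart of a smooth atlas are smooth. -/
theorem smooth_of_etale_points (hX : FibCat.IsFibGrpd 𝒳.p) {U : Over S}
    {x : FibCat.overCat U ⥤ᵇ 𝒳} (hx : AlgSt.RepByAlgSpWith (AlgSp.LocP @Smooth) x)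
    {W : Over S} {w : FibCat.overCat W ⥤ᵇ 𝒳} {P : Over S}
    {L : FibCat.overCat P ⥤ᵇ FibCat.fp x w}
    {a : P ⟶ U} (α : BasedFunctor.comp L (FibCat.fpFst x w) ≅ AlgSt.overMap a)
    {b : P ⟶ W} (β : BasedFunctor.comp L (FibCat.fpSnd x w) ≅ AlgSt.overMap b) [Smooth b.left]
    (hcov : ∀ v : ↥W.left, ∃ z ∈ etaleOpen a.left, b.left z = v)
    {T N : Over S} {y : FibCat.overCat T ⥤ᵇ 𝒳} {LN : FibCat.overCat N ⥤ᵇ FibCat.fp y w}
    (hLN : AlgSt.RepByAlgSpWith (AlgSp.LocP @Etale) LN)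
    {aN : N ⟶ T} (αN : BasedFunctor.comp LN (FibCat.fpFst y w) ≅ AlgSt.overMap aN)
    {bN : N ⟶ W} (βN : BasedFunctor.comp LN (FibCat.fpSnd y w) ≅ AlgSt.overMap bN) :
    Smooth aN.left := by
  let E : Over S := Over.mk ((etaleOpen a.left).ι ≫ P.hom)
  let j : E ⟶ P := Over.homMk (etaleOpen a.left).ι rfl
  have hja : Etale (j ≫ a).left := etale_etaleOpen a.left
  have hjb : Smooth (j ≫ b).left :=
    inferInstanceAs (Smooth ((etaleOpen a.left).ι ≫ b.left))
  have hjbs : Surjective (j ≫ b).left := ⟨fun v => by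
    obtain ⟨z, hz, hzv⟩ := hcov v
    exact ⟨⟨z, hz⟩, hzv⟩⟩
  obtain ⟨N', pE, pN, L', hpb, ⟨α'⟩, -, hL'⟩ := exists_chart_baseChange αN βN (j ≫ b)
  have : Smooth pN.left := MorphismProperty.of_isPullback hpb hjb
  have : Surjective pN.left := MorphismProperty.of_isPullback hpb hjbs
  have ε : BasedFunctor.comp (AlgSt.overMap (j ≫ a)) x ≅ BasedFunctor.comp (AlgSt.overMap (j ≫ b)) w :=
    ((whiskerRightIso ((nonempty_overMap_comp_iso j a).some.symm.trans
        (whiskerLeftIso (AlgSt.overMap j) α.symm)) x).trans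
      (whiskerLeftIso (BasedFunctor.comp (AlgSt.overMap j) L) (FibCat.fpIso x w))).trans
      ((whiskerRightIso ((whiskerLeftIso (AlgSt.overMap j) β).trans
        (nonempty_overMap_comp_iso j b).some) w))
  have hwE : AlgSt.RepByAlgSpWith (AlgSp.LocP @Smooth) (BasedFunctor.comp (AlgSt.overMap (j ≫ b)) w) :=
    repWith_of_iso ε (Groth.ResGerbe.repWith_comp_smooth (P := @Smooth) (fun _ _ _ h => h) (j ≫ a)
      (inferInstanceAs (Smooth (j ≫ a).left)) hx)
  have hsm : Smooth (pN ≫ aN).left := by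
    refine left_prop_of_repWith_overMap (P := @Smooth) (repWith_of_iso α'
      (repWith_comp' (isFibGrpd_overCat N') (isFibGrpd_fp (isFibGrpd_overCat _) (isFibGrpd_overCat _) hX)
        stableBaseChange_locP stableComp_locP descendsAlongAtlas_locP ?_ (repWith_fpFst _ _ hwE)))
    exact repWith_mono (fun _ _ f _ _ h => Groth.AlgSpBasic.locP_mono (P := @Etale) (Q := @Smooth)
      (fun _ _ g (hg : Etale g) => inferInstance) h) (hL' _ hLN)
  have : Smooth (pN.left ≫ aN.left) := hsm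
  exact Groth.AlgSp2.smooth_of_comp_surjective_smooth pN.left aN.left

/-- A chart of a scheme over a smooth chart, with enough etale points, is etale. -/
theorem repWith_etale_of_etale_points (hX : FibCat.IsFibGrpd 𝒳.p)
    (hd : AlgSt.RepByAlgSp1 (FibCat.diag (FibCat.toSelf 𝒳))) {U : Over S}
    {x : FibCat.overCat U ⥤ᵇ 𝒳} (hx : AlgSt.RepByAlgSpWith (AlgSp.LocP @Smooth) x)
    {W : Over S} (w : FibCat.overCat W ⥤ᵇ 𝒳) {P : Over S}
    {L : FibCat.overCat P ⥤ᵇ FibCat.fp x w} (hL : AlgSt.RepByAlgSpWith (AlgSp.LocP @Etale) L)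
    {a : P ⟶ U} (α : BasedFunctor.comp L (FibCat.fpFst x w) ≅ AlgSt.overMap a) [Smooth a.left]
    {b : P ⟶ W} (β : BasedFunctor.comp L (FibCat.fpSnd x w) ≅ AlgSt.overMap b) [Smooth b.left]
    (hcov : ∀ v : ↥W.left, ∃ z ∈ etaleOpen a.left, b.left z = v) :
    AlgSt.RepByAlgSpWith AlgSp.IsEtaleMor w := by
  intro T y
  obtain ⟨F, e, he⟩ := (repByAlgSp1_diag_iff hX).1 hd W w T y
  refine ⟨F, e, he, ?_⟩
  let π := AlgSt.spMapOfOver (BasedFunctor.comp e (FibCat.fpFst y w))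
  have hT := AlgSp.IsAlgSpace.yon_obj T
  obtain ⟨N, q, hq, hqs⟩ := F.property.atlas
  obtain ⟨aN, haN⟩ := (AlgSp.yon S).map_surjective (q ≫ π)
  refine Groth.AlgSpBasic.isEtaleMor_of_locP hT
    (Groth.AlgSpBasic.locP_of_source_cover F.property hT hq hqs ?_)
  rw [← haN]
  refine locP_yon_of_left (P := @Etale) ?_
  -- the chart as a functor
  let LN : FibCat.overCat N ⥤ᵇ FibCat.fp y w :=
    BasedFunctor.comp (AlgSt.ofOverCat N) (BasedFunctor.comp (AlgSt.ofSpMap q) e)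
  have hLN : AlgSt.RepByAlgSpWith (AlgSp.LocP @Etale) LN :=
    (repWith_precomp_equiv (isEquivOver_ofOverCat N) _).2 ((repWith_postcomp_equiv _ he).2
      (repByAlgSpWith_locP_of_repWith hq))
  have hfp : FibCat.IsFibGrpd (FibCat.fp y w).p :=
    isFibGrpd_fp (isFibGrpd_overCat _) (isFibGrpd_overCat _) hX
  let Φ₀ := BasedFunctor.comp (AlgSt.ofSpMap q) (BasedFunctor.comp e (FibCat.fpFst y w))
  obtain ⟨αN⟩ : Nonempty (BasedFunctor.comp LN (FibCat.fpFst y w) ≅ AlgSt.overMap aN) := by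
    refine StkRed.iso_overMap_of_spMap Φ₀ aN ?_
    rw [haN]
    apply ObjectProperty.hom_ext
    rw [spMapOfOver_hom_eq Φ₀]
    show q.hom ≫ π.hom = _
    rw [spMapOfOver_hom_eq, ← pshMapOf_ofPshMap q.hom, ← pshMapOf_comp]
    rfl
  obtain ⟨bN, ⟨βN⟩⟩ := exists_iso_overMap (BasedFunctor.comp LN (FibCat.fpSnd y w))
  have : Smooth aN.left := smooth_of_etale_points hX hx α β hcov hLN αN βN
  -- quasi-finiteness
  have : LocallyQuasiFinite aN.left := locallyQuasiFinite_of_fibreDimAt _ fun n => by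
    obtain ⟨z, hz, hzv⟩ := hcov (bN.left n)
    rw [fibreDimAt_eq_of_same_image' hLN hL αN α βN β hX n z hzv.symm,
      show z = (etaleOpen a.left).ι ⟨z, hz⟩ from rfl, ← Groth.FibreDim.fibreDimAt_openImmersion_comp]
    have : LocallyQuasiFinite ((etaleOpen a.left).ι ≫ a.left) :=
      Groth.DescentBase.locallyQuasiFinite_of_etale _
    exact Groth.FibreDim.fibreDimAt_eq_zero_of_locallyQuasiFinite _ _
  exact etale_of_smooth_of_lqf aN.left

/-- An algebraic stack with unramified diagonal has an etale atlas. -/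
theorem hasAtlas_etale (hX : FibCat.IsFibGrpd 𝒳.p)
    (hd : AlgSt.RepByAlgSp1 (FibCat.diag (FibCat.toSelf 𝒳)))
    (hat : AlgSt.HasAtlas (AlgSp.LocP @Smooth) 𝒳) (hq : AlgSt.IsDMOver 𝒳) :
    AlgSt.HasAtlas AlgSp.IsEtaleMor 𝒳 := by
  obtain ⟨U, x, hx, hxs⟩ := hat
  obtain ⟨R, c, L, hL, hLs, ⟨α⟩, ⟨β⟩, hsm, htm, hlft, hunr⟩ := exists_pair_chart hX hq hx
  let s : R.left ⟶ U.left := (c ≫ sqFst U).left
  let t : R.left ⟶ U.left := (c ≫ sqSnd U).left
  have : Smooth s := hsm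
  have : Smooth t := htm
  have : FormallyUnramified c.left := hunr
  have : LocallyOfFiniteType c.left := hlft
  have hsep : Separates s t := separates_of_formallyUnramified U.hom c.left rfl rfl
  have hfp : FibCat.IsFibGrpd (FibCat.fp x x).p :=
    isFibGrpd_fp (isFibGrpd_overCat _) (isFibGrpd_overCat _) hX
  have hdiag : ∀ u : U.left, ∃ r : R.left, s r = u ∧ t r = u := fun u => by
    obtain ⟨r, hr⟩ := surjective_ofChart hfp hLs
      (AlgSt.Points.map (FibCat.fpLift (F := x) (G := x) (BasedFunctor.id _) (BasedFunctor.id _)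
        (Iso.refl _)) (AlgSt.Points.ofChart (BasedFunctor.id _) u))
    refine ⟨r, (bijective_ofChart_id (T := U)).1 ?_, (bijective_ofChart_id (T := U)).1 ?_⟩
    · show AlgSt.Points.ofChart _ ((c ≫ sqFst U).left r) = _
      rw [← map_overMap_ofChart, ← map_eq_of_iso α, map_comp, ← ofChart_eq_map, hr, ← map_comp]
      exact map_id _
    · show AlgSt.Points.ofChart _ ((c ≫ sqSnd U).left r) = _
      rw [← map_overMap_ofChart, ← map_eq_of_iso β, map_comp, ← ofChart_eq_map, hr, ← map_comp]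
      exact map_id _
  obtain ⟨W₀, g₀, hW, hU⟩ := exists_slice hsep hdiag
  let W : Over S := Over.mk (g₀ ≫ U.hom)
  let g : W ⟶ U := Over.homMk g₀ rfl
  obtain ⟨P, pW, pR, L', hpb, ⟨α'⟩, ⟨β'⟩, hL'⟩ := exists_chart_baseChange α β g
  let a : P ⟶ U := pR ≫ c ≫ sqFst U
  have hb : Smooth pW.left := MorphismProperty.of_isPullback hpb.flip htm
  let φ := hpb.isoPullback
  have hφ : φ.inv ≫ a.left = pullback.snd g₀ t ≫ s := by
    show φ.inv ≫ pR.left ≫ s = _
    rw [← Category.assoc]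
    exact congrArg (· ≫ s) hpb.isoPullback_inv_snd
  have hmem : ∀ z ∈ etaleOpen (pullback.snd g₀ t ≫ s), φ.inv z ∈ etaleOpen a.left := fun z hz =>
    map_mem_etaleOpen φ.inv a.left (by rw [hφ]; exact hz)
  have hcov : ∀ v : ↥W.left, ∃ z ∈ etaleOpen a.left, pW.left z = v := fun v => by
    obtain ⟨z, hz, hzv⟩ := hW v
    refine ⟨φ.inv z, hmem z hz, ?_⟩
    rw [← Scheme.Hom.comp_apply, hpb.isoPullback_inv_fst]
    exact hzv
  have : Smooth a.left := smooth_of_etale_points hX hx α' β' hcov (hL' _ hL) α' β'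
  let w := BasedFunctor.comp (AlgSt.overMap g) x
  refine ⟨W, w, repWith_etale_of_etale_points hX hd hx w (hL' _ hL) α' β' hcov, ?_⟩
  refine repWith_surjective_of_range hX ((repByAlgSp1_diag_iff hX).1 hd W w) fun p => ?_
  obtain ⟨u, rfl⟩ := surjective_ofChart hX hxs p
  obtain ⟨z, -, hzu⟩ := hU u
  refine ⟨pW.left (φ.inv z), ?_⟩
  have e : BasedFunctor.comp (AlgSt.overMap a) x ≅ BasedFunctor.comp (AlgSt.overMap pW) w :=
    (whiskerRightIso α'.symm x).trans
      ((whiskerLeftIso L' (FibCat.fpIso x w)).trans (whiskerRightIso β' w))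
  rw [← ofChart_overMap pW w, ← ofChart_eq_of_iso e, ofChart_overMap, ← hzu,
    ← Scheme.Hom.comp_apply, hφ]
  rfl

end Groth.StackDM
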