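import Groth.Agent.StackDM.Diag
import Groth.Agent.StkGerb.Rigid.Generic
import Groth.Agent.Misc10.IsoNat.OpenSub
import Groth.Agent.AlgStDVR.Points
import Groth.Agent.GitQuot.StkInertia.Descent
import Groth.Agent.GitQuot.StkPieces.OverMap
import Groth.Agent.PropsBasic.GenericFinite
import Groth.Agent.FlatMorOne.GenFlatScheme

/-!
# The inertia of a reduced stack with affine diagonal and étale atlas is generically finite étale
-/

set_option autoImplicit false
set_option backward.isDefEq.respectTransparency false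
set_option backward.isDefEq.respectTransparency.types false

universe u

open CategoryTheory CategoryTheory.Limits AlgebraicGeometry Opposite
open Groth.StkBase Groth.AlgStBasic Groth.AlgSpBasic Groth.StkGerb

noncomputable section

namespace Groth.StackDM

variable {S : Scheme.{u}} {𝒳 𝒴 : AlgSt.Cat S}

/-- An affine unramified morphism to a reduced scheme is finite etale over a nonempty open. -/
theorem exists_open_finite_etale {W V : Scheme.{u}} (d : W ⟶ V) [IsReduced V] [IsAffineHom d]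
    [LocallyOfFiniteType d] [FormallyUnramified d] (v : ↥V) :
    ∃ O : V.Opens, (O : Set V).Nonempty ∧ IsFinite (d ∣_ O) ∧ Etale (d ∣_ O) := by
  have : LocallyQuasiFinite d := Groth.AlgSpBasic.locallyQuasiFinite_of_formallyUnramified d
  obtain ⟨η, hη, -⟩ := Groth.PropsBasic2.exists_genericPoint_specializes v
  obtain ⟨O₁, -, hηO, hf⟩ := Groth.PropsBasic.GenericFinite.exists_affine_nhd_isFinite d hη
    (d.finite_preimage_singleton η)
  obtain ⟨O₂, hd, hfl, hfp⟩ := Groth.FlatMorOne.exists_dense_flat_finitePresentation d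
  have hu₂ : FormallyUnramified (d ∣_ O₂) := IsZariskiLocalAtTarget.restrict ‹_› O₂
  have he₂ : Etale (d ∣_ O₂) := Etale.of_formallyUnramified_of_flat _
  obtain ⟨w, h₁, h₂⟩ := hd.inter_open_nonempty O₁ O₁.2 ⟨η, hηO⟩
  have key : ∀ (P : MorphismProperty Scheme.{u}) [P.IsStableUnderBaseChange] [P.RespectsIso]
      (A B : V.Opens), B ≤ A → P (d ∣_ A) → P (d ∣_ B) := fun P _ _ A B hle h => by
    have hout : IsPullback (W.homOfLE (d.preimage_mono hle) ≫ (d ⁻¹ᵁ A).ι) (d ∣_ B) d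
        (V.homOfLE hle ≫ A.ι) := by
      simpa using (isPullback_morphismRestrict d B).flip
    have hsq : W.homOfLE (d.preimage_mono hle) ≫ d ∣_ A = (d ∣_ B) ≫ V.homOfLE hle := by
      rw [← cancel_mono A.ι]; simp
    exact MorphismProperty.of_isPullback (IsPullback.of_right hout hsq
      (isPullback_morphismRestrict d A).flip) h
  exact ⟨O₁ ⊓ O₂, ⟨w, h₁, h₂⟩, key @IsFinite O₁ _ inf_le_left hf, key @Etale O₂ _ inf_le_right he₂⟩

/-- The base change of an affine functor to a scheme chart is a scheme, affine over the chart. -/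
theorem exists_affine_baseChange {f : 𝒳 ⥤ᵇ 𝒴} (hf : AlgSt.RepByAlgSpWith AlgSp.IsAffineMor f)
    {V : Over S} (y : FibCat.overCat V ⥤ᵇ 𝒴) :
    ∃ (W : Over S) (d : W ⟶ V) (L : FibCat.overCat W ⥤ᵇ FibCat.fp y f), FibCat.IsEquivOver L ∧
      Nonempty (BasedFunctor.comp L (FibCat.fpFst y f) ≅ AlgSt.overMap d) ∧ IsAffineHom d.left := by
  obtain ⟨F, e, he, hp⟩ := hf V y
  let Φ := BasedFunctor.comp e (FibCat.fpFst y f)
  have hp' := isAffineMor_iff_repWith.1 hp
  obtain ⟨W, d, r, sq⟩ := hp'.rep (𝟙 _)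
  have hd : IsAffineHom d.left := hp'.property (𝟙 _) r d sq
  have hr : IsIso r := sq.isIso_fst_of_isIso
  have hc : (AlgSp.yon S).map d = r ≫ AlgSt.spMapOfOver Φ := by
    rw [sq.w, Category.comp_id]
  have : IsIso r.hom := Functor.map_isIso (sheafToPresheaf (AlgSp.J S) _) r
  refine ⟨W, d, BasedFunctor.comp (overMapOf r.hom) e,
    isEquivOver_comp (isEquivOver_comp (isEquivOver_ofOverCat W) (isEquivOver_ofPshMap r.hom)) he,
    ?_, hd⟩
  let T := AlgSt.toOverCat V
  obtain ⟨β⟩ := nonempty_iso_pshMapOf (BasedFunctor.comp Φ (AlgSt.ofOverCat V))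
  have γ : Φ ≅ BasedFunctor.comp (Stk.ofPshMap (AlgSt.spMapOfOver Φ).hom) T :=
    whiskerRightIso (β.trans (eqToIso (congrArg Stk.ofPshMap (spMapOfOver_hom_eq Φ).symm))) T
  obtain ⟨δ⟩ := nonempty_overMapOf_iso d
  have heq : overMapOf (r ≫ AlgSt.spMapOfOver Φ).hom = overMapOf ((AlgSp.pyon S).map d) := by
    rw [← hc]
    rfl
  exact ⟨(whiskerLeftIso (overMapOf r.hom) γ).trans
    ((eqToIso (congrArg (fun m => BasedFunctor.comp m T) heq)).trans δ)⟩

/-- The objects with all their points in an open set cut out an open substack. -/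
theorem isOpenImm_inPts (hX : FibCat.IsFibGrpd 𝒳.p) (hat : AlgSt.HasAtlas (AlgSp.LocP @Smooth) 𝒳)
    {T : Set (AlgSt.Points 𝒳)} (hT : IsOpen T) :
    AlgSt.IsOpenImm (AlgSt.subIncl 𝒳 (inPts T)) := by
  refine Groth.Misc10.IsoNat.isOpenImm_subIncl _ (fun _ _ l h => inPts_of_hom l h) fun U y => ?_
  let O : U.left.Opens := ⟨AlgSt.Points.ofChart y ⁻¹' T,
    hT.preimage (Groth.AlgStDVR.continuous_ofChart_of_atlas hat y)⟩
  refine ⟨O, fun g => ⟨fun h => ?_, ?_⟩⟩
  · have hr : Set.range g.hom.left ⊆ Set.range O.ι := by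
      rw [Scheme.Opens.range_ι]
      rintro _ ⟨a, rfl⟩
      exact (inPts_obj_iff hX y g).1 h a
    exact ⟨IsOpenImmersion.lift O.ι g.hom.left hr, IsOpenImmersion.lift_fac _ _ _⟩
  · rintro ⟨g', hg'⟩
    refine (inPts_obj_iff hX y g).2 fun a => ?_
    rw [← hg', Scheme.Hom.comp_apply]
    exact (g' a).2

/-- A reduced stack with affine diagonal and unramified inertia has an open substack, with a point,
with finite etale inertia. -/
theorem exists_openImm_inertia_finite_etale (hX : FibCat.IsFibGrpd 𝒳.p)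
    (hat : AlgSt.HasAtlas (AlgSp.LocP @Smooth) 𝒳)
    (hΔ : AlgSt.RepByAlgSpWith AlgSp.IsAffineMor (FibCat.diag (FibCat.toSelf 𝒳)))
    (hq : AlgSt.IsDMOver 𝒳) (hred : AlgSt.SmoothLocally (fun T => IsReduced T) 𝒳)
    (hne : Nonempty (AlgSt.Points 𝒳)) :
    ∃ (𝒰 : AlgSt.Cat S) (j : 𝒰 ⥤ᵇ 𝒳), AlgSt.IsOpenImm j ∧ Nonempty (AlgSt.Points 𝒰) ∧
      AlgSt.RepByAlgSpWith (AlgSp.IsFiniteMor ⊓ AlgSp.IsEtaleMor)
        (FibCat.inertiaToBase (FibCat.toSelf 𝒰)) := by
  obtain ⟨U, x, hx, hxs⟩ := hat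
  have : IsReduced U.left := hred U x hx
  obtain ⟨p⟩ := hne
  obtain ⟨u, -⟩ := surjective_ofChart hX hxs p
  let I := FibCat.inertiaToBase (FibCat.toSelf 𝒳)
  have hIa : AlgSt.RepByAlgSpWith AlgSp.IsAffineMor I := repWith_inertiaToBase _ hΔ
  have hIu : AlgSt.RepByAlgSpWith (AlgSp.LocP (@LocallyOfFiniteType ⊓ @FormallyUnramified)) I :=
    repWith_inertiaToBase _ hq
  obtain ⟨W, d, L, hL, ⟨δ⟩, hd⟩ := exists_affine_baseChange hIa x
  have hdu : (@LocallyOfFiniteType ⊓ @FormallyUnramified : MorphismProperty Scheme.{u}) d.left :=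
    Groth.AlgStBasic.left_prop_of_repWith_overMap
      (repWith_of_iso δ ((repWith_precomp_equiv hL _).2 (repWith_fpFst _ _ hIu)))
  obtain ⟨_, _⟩ := hdu
  obtain ⟨O, ⟨o, ho⟩, hfin, het⟩ := exists_open_finite_etale d.left u
  let jO := opIncl U O
  let k₁ : opSch W (d.left ⁻¹ᵁ O) ⟶ opSch U O := Over.homMk (d.left ∣_ O) (by
    show (d.left ∣_ O) ≫ O.ι ≫ U.hom = (d.left ⁻¹ᵁ O).ι ≫ W.hom
    rw [← Category.assoc, morphismRestrict_ι, Category.assoc, Over.w])
  let k₂ := opIncl W (d.left ⁻¹ᵁ O)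
  have sq : IsPullback k₁ k₂ jO d :=
    IsPullback.of_map (Over.forget S) (Over.OverMorphism.ext (morphismRestrict_ι d.left O))
      (isPullback_morphismRestrict d.left O)
  obtain ⟨Λ, hΛ, hΛ₁⟩ := exists_equiv_fp_overMap sq
  let xO := BasedFunctor.comp (AlgSt.overMap jO) x
  let E := BasedFunctor.comp (BasedFunctor.comp (BasedFunctor.comp Λ
      (fpCongr (Iso.refl (AlgSt.overMap jO)) δ.symm))
      (fpPre (BasedFunctor.id _) L (AlgSt.overMap jO) (FibCat.fpFst x I)))
      (fpPaste (AlgSt.overMap jO) x I)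
  have hE : FibCat.IsEquivOver E :=
    isEquivOver_comp (isEquivOver_comp (isEquivOver_comp hΛ (isEquivOver_fpCongr _ _))
      (isEquivOver_fpPre (isEquivOver_id _) hL _ _)) (isEquivOver_fpPaste _ x I)
  have εE : BasedFunctor.comp E (FibCat.fpFst xO I) ≅ AlgSt.overMap k₁ := eqToIso hΛ₁
  have hxO : AlgSt.RepByAlgSpWith (AlgSp.LocP @Smooth) xO :=
    Groth.ResGerbe.repWith_comp_smooth (P := @Smooth) (fun _ _ _ h => h) _
      (inferInstanceAs (Smooth O.ι)) hx
  let T : Set (AlgSt.Points 𝒳) := Set.range (AlgSt.Points.ofChart xO)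
  have hT : IsOpen T := (isOpenMap_ofChart_of_smooth hX hxO).isOpen_range
  let i := AlgSt.subIncl 𝒳 (inPts T)
  have hi := isOpenImm_inPts hX ⟨U, x, hx, hxs⟩ hT
  have hloc : ∀ (P : MorphismProperty (AlgSp.Sp S)), StableBaseChange P →
      AlgSp.IsLocalOnBase AlgSp.IsFppfCover P → P ((AlgSp.yon S).map k₁) →
      AlgSt.RepByAlgSpWith P (FibCat.fpFst i I) := by
    intro P hb hP hk
    have hO : AlgSt.RepByAlgSpWith P (FibCat.fpFst xO I) :=
      (repWith_precomp_equiv hE _).1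
        (repWith_of_iso εE.symm (Groth.StkPieces.repWith_overMap_of_stable hb k₁ hk))
    intro W' y
    refine RepFst.of_equiv (isEquivOver_fpUnpaste y i I) (Iso.refl _) ?_
    let y' := BasedFunctor.comp y i
    have hpt : ∀ w : ↥W'.left,
        AlgSt.Points.ofChart y' w ∈ Set.range (AlgSt.Points.ofChart xO) :=
      fun w => range_subIncl_inPts T ⟨AlgSt.Points.ofChart y w, rfl⟩
    choose W'' c a hc hcw α using fun w => exists_smooth_lift_at hX hxO y' w (hpt w)
    refine repFst_of_locally hb hP (repWith_repByAlgSp1 hIa) y'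
      (generate_ofArrows_mem W'' c hc fun t => ⟨t, hcw t⟩) ?_
    rintro W₁ h ⟨_, l, _, ⟨w⟩, rfl⟩
    let t := BasedFunctor.comp (AlgSt.overMap l) (AlgSt.overMap (a w))
    have γ : BasedFunctor.comp t xO ≅ BasedFunctor.comp (AlgSt.overMap (l ≫ c w)) y' :=
      (whiskerLeftIso (AlgSt.overMap l) (α w).some).trans
        (whiskerRightIso (nonempty_overMap_comp_iso l (c w)).some y')
    exact RepFst.of_equiv (isEquivOver_fpCongr γ (Iso.refl I)) (Iso.refl _)
      (RepFst.of_equiv (isEquivOver_fpPaste t xO I) (Iso.refl _) (hO W₁ t))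
  obtain ⟨G, hG, eG⟩ := exists_inertia_fullSub_equiv (inPts T)
  have hf := hloc _ Groth.GitQuot.StkInertia.stableBaseChange_isFiniteMor
    Groth.GitQuot.StkInertia.isLocalOnBase_fppf_isFiniteMor
    (isFiniteMor_iff_repWith.2 ((AlgSp.repWith_yon_map_iff (@IsFinite) k₁).2 hfin))
  have he := hloc (AlgSp.LocP @Etale) stableBaseChange_locP (isLocalOnBase_fppf_locP _)
    (locP_of_repWith ((AlgSp.repWith_yon_map_iff (@Etale) k₁).2 het))
  refine ⟨AlgSt.fullSub 𝒳 (inPts T), i, hi, ?_, ?_⟩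
  · have hm : AlgSt.Points.ofChart xO ⟨o, ho⟩ ∈ Set.range (AlgSt.Points.map i) := by
      rw [range_subIncl_inPts_eq]
      exact ⟨_, rfl⟩
    exact ⟨hm.choose⟩
  · rw [← eG]
    refine (repWith_precomp_equiv hG _).2
      (repWith_mono (fun _ _ f hA hB h => ⟨h.1, isEtaleMor_of_locP hB h.2⟩)
        (Groth.AlgStBasic.repWith_inf stableBaseChange_locP hf he))

end Groth.StackDM
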