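import Groth.Agent.StackDM.Unram
import Groth.Agent.AlgStBasic.Permanence
import Groth.Agent.AlgSpBasic.LocPInst

/-!
# Unramified diagonals and infinitesimal automorphisms
-/

set_option autoImplicit false
set_option backward.isDefEq.respectTransparency false
set_option backward.isDefEq.respectTransparency.types false

universe u

open CategoryTheory CategoryTheory.Limits AlgebraicGeometry Opposite
open Groth.StkBase Groth.AlgStBasic Groth.AlgSpBasic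

noncomputable section

namespace Groth.StackDM

variable {S : Scheme.{u}} {𝒳 𝒴 : AlgSt.Cat S}

/-- An automorphism killed by `f` and trivial on the restriction along `i` is trivial. -/
def NoInfAut (f : 𝒳 ⥤ᵇ 𝒴) {D₀ D : Over S} (i : D₀ ⟶ D) : Prop :=
  ∀ (x z : 𝒳.obj) (hx : 𝒳.p.obj x = D) (hz : 𝒳.p.obj z = D₀) (v : z ⟶ x),
    𝒳.p.map v = eqToHom hz ≫ i ≫ eqToHom hx.symm →
    ∀ θ : x ⟶ x, IsVert 𝒳.p θ → f.map θ = 𝟙 _ → v ≫ θ = v → θ = 𝟙 x

/-- Being trivial on a restriction does not depend on the restriction. -/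
theorem comp_eq_of_lifts (hX : FibCat.IsFibGrpd 𝒳.p) {x z z' : 𝒳.obj} (v : z ⟶ x) (v' : z' ⟶ x)
    (h : 𝒳.p.obj z' = 𝒳.p.obj z) (e : 𝒳.p.map v' = eqToHom h ≫ 𝒳.p.map v) {θ : x ⟶ x}
    (hθ : v ≫ θ = v) : v' ≫ θ = v' := by
  obtain ⟨k, -, hk⟩ := exists_vert_iso_of_lifts hX v' v h e
  rw [← hk, Category.assoc, hθ]

/-- The functor criterion gives the criterion on objects. -/
theorem noInfAut_of_functor (hX : FibCat.IsFibGrpd 𝒳.p) (hY : FibCat.IsFibGrpd 𝒴.p)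
    (f : 𝒳 ⥤ᵇ 𝒴) {D₀ D : Over S} (i : D₀ ⟶ D)
    (h : ∀ (xt : FibCat.overCat D ⥤ᵇ 𝒳) (Θ : xt ≅ xt),
      BasedCategory.whiskerLeft (AlgSt.overMap i) Θ.hom = 𝟙 (BasedFunctor.comp (AlgSt.overMap i) xt) →
        BasedCategory.whiskerRight Θ.hom f = 𝟙 (BasedFunctor.comp xt f) → Θ.hom = 𝟙 xt) :
    NoInfAut f i := by
  intro x z hx hz v hv θ hθ hfθ hvθ
  let xt := overFunctor hX x hx
  obtain ⟨j, hj⟩ := overFunctor_eval hX x hx
  obtain ⟨Θ, hΘ⟩ := exists_overIso hX xt xt (j.hom ≫ θ ≫ j.inv) (hj.comp (hθ.comp hj.inv))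
  let g : (FibCat.overCat D).obj := (AlgSt.overMap i).obj (idObj D₀)
  have hg : (toId g).left = i := Category.id_comp i
  have h₁ : BasedCategory.whiskerLeft (AlgSt.overMap i) Θ.hom =
      𝟙 (BasedFunctor.comp (AlgSt.overMap i) xt) := by
    refine natTrans_ext_idObj hX ?_
    show (isoApp Θ g).hom = 𝟙 (xt.obj g)
    refine hom_eq_of_comp_eq hX (xt.map (toId g)) ?_ ?_
    · rw [(isVert_isoApp Θ g).map_eq, CategoryTheory.Functor.map_id]; rfl
    · rw [← isoApp_naturality, hΘ, Category.id_comp, ← Category.assoc, ← Category.assoc,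
        Iso.comp_inv_eq, Category.assoc]
      refine (Category.assoc _ _ _).symm.trans ?_
      refine comp_eq_of_lifts hX v _ ((xt.w_obj g).trans hz.symm) ?_ hvθ
      rw [Functor.map_comp, map_map, hj.map_eq, hv, overCat_map, hg]
      simp
  have h₂ : BasedCategory.whiskerRight Θ.hom f = 𝟙 (BasedFunctor.comp xt f) := by
    refine natTrans_ext_idObj hY ?_
    show f.map (isoApp Θ (idObj D)).hom = 𝟙 (f.obj (xt.obj (idObj D)))
    rw [hΘ, f.toFunctor.map_comp, f.toFunctor.map_comp, hfθ, Category.id_comp, ← f.toFunctor.map_comp,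
      j.hom_inv_id]
    exact f.toFunctor.map_id _
  have h₃ := h xt Θ h₁ h₂
  have h₄ : (isoApp Θ (idObj D)).hom = 𝟙 (xt.obj (idObj D)) :=
    congrArg (fun α : xt ⟶ xt => α.toNatTrans.app (idObj D)) h₃
  rw [hΘ, ← Category.assoc, Iso.comp_inv_eq, Category.id_comp] at h₄
  exact (cancel_epi j.hom).1 (h₄.trans (Category.comp_id _).symm)

/-- The criterion on objects gives the functor criterion. -/
theorem functor_of_noInfAut (hX : FibCat.IsFibGrpd 𝒳.p) (f : 𝒳 ⥤ᵇ 𝒴) {D₀ D : Over S} (i : D₀ ⟶ D)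
    (h : NoInfAut f i) (xt : FibCat.overCat D ⥤ᵇ 𝒳) (Θ : xt ≅ xt)
    (h₁ : BasedCategory.whiskerLeft (AlgSt.overMap i) Θ.hom =
      𝟙 (BasedFunctor.comp (AlgSt.overMap i) xt))
    (h₂ : BasedCategory.whiskerRight Θ.hom f = 𝟙 (BasedFunctor.comp xt f)) : Θ.hom = 𝟙 xt := by
  refine natTrans_ext_idObj hX ?_
  let g : (FibCat.overCat D).obj := (AlgSt.overMap i).obj (idObj D₀)
  have hg : (toId g).left = i := Category.id_comp i
  refine h _ (xt.obj g) (xt.w_obj _) (xt.w_obj g) (xt.map (toId g)) ?_ _ (isVert_app _ _) ?_ ?_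
  · rw [map_map, overCat_map, hg]
  · exact congrArg (fun α : BasedFunctor.comp xt f ⟶ BasedFunctor.comp xt f =>
      α.toNatTrans.app (idObj D)) h₂
  · have e : (isoApp Θ g).hom = 𝟙 (xt.obj g) := congrArg
      (fun α : BasedFunctor.comp (AlgSt.overMap i) xt ⟶ BasedFunctor.comp (AlgSt.overMap i) xt =>
        α.toNatTrans.app (idObj D₀)) h₁
    exact (isoApp_naturality Θ (toId g)).trans (by rw [e, Category.id_comp])

/-- The morphism between two points of a base change of the diagonal agreeing on a restriction. -/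
theorem exists_vert_of_restrict (hX : FibCat.IsFibGrpd 𝒳.p) (f : 𝒳 ⥤ᵇ 𝒴) {T : Over S}
    (y : FibCat.overCat T ⥤ᵇ FibCat.fp f f) {D₀ D : Over S} {i : D₀ ⟶ D} (h : NoInfAut f i)
    {c p₀ p₁ : (FibCat.fp y (FibCat.diag f)).obj} (m₀ : c ⟶ p₀) (m₁ : c ⟶ p₁)
    (hc : c.obj.fst.left = D₀) (hp : p₀.obj.fst.left = D)
    (hm : m₀.hom.fst.left = eqToHom hc ≫ i ≫ eqToHom hp.symm)
    (ε : p₀.obj.fst ⟶ p₁.obj.fst) (hε : IsVert (FibCat.overCat T).p ε)
    (he : m₀.hom.fst ≫ ε = m₁.hom.fst) :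
    ∃ φ : p₀ ⟶ p₁, IsVert (FibCat.fp y (FibCat.diag f)).p φ := by
  let Δ := FibCat.diag f
  let Φ : Δ.obj p₀.obj.snd ⟶ Δ.obj p₁.obj.snd :=
    p₀.obj.iso.inv ≫ y.map ε ≫ p₁.obj.iso.hom
  have hΦ : IsVert (FibCat.fp f f).p Φ :=
    (fp_isVert p₀).inv.comp ((isVert_map hε).comp (fp_isVert p₁))
  have hΦ' : Δ.map m₀.hom.snd ≫ Φ = Δ.map m₁.hom.snd := by
    have w₀ := m₀.hom.w
    have w₁ := m₁.hom.w
    rw [← cancel_epi c.obj.iso.hom]
    refine ((Category.assoc _ _ _).symm.trans (congrArg (· ≫ Φ) w₀.symm)).trans ?_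
    simp only [Φ, Category.assoc, Iso.hom_inv_id_assoc]
    rw [← Category.assoc, ← y.toFunctor.map_comp, he]
    exact w₁
  let ψ : p₀.obj.snd ⟶ p₁.obj.snd := Φ.hom.fst
  let ψ' : p₀.obj.snd ⟶ p₁.obj.snd := Φ.hom.snd
  have hv : IsVert 𝒳.p ψ := (isVert_fp_iff Φ).1 hΦ
  have hv' : IsVert 𝒳.p ψ' := isVert_map (F := FibCat.fpSnd f f) hΦ
  have hf : f.map ψ = f.map ψ' := by
    have := Φ.hom.w
    exact ((Category.comp_id _).symm.trans this).trans (Category.id_comp _)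
  have hu : m₀.hom.snd ≫ ψ = m₁.hom.snd := congrArg (fun t => t.hom.fst) hΦ'
  have hu' : m₀.hom.snd ≫ ψ' = m₁.hom.snd := congrArg (fun t => t.hom.snd) hΦ'
  have := hv.isIso hX
  have hθ := h p₀.obj.snd c.obj.snd ((fp_p_snd p₀).trans hp) ((fp_p_snd c).trans hc) m₀.hom.snd
    (by
      rw [fp_map_snd, overCat_map, hm]
      simp)
    (ψ' ≫ inv ψ) (hv'.comp (IsVert.inv (φ := asIso ψ) hv))
    (by
      rw [f.toFunctor.map_comp, ← hf, ← f.toFunctor.map_comp, IsIso.hom_inv_id]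
      exact f.toFunctor.map_id _)
    (by rw [← Category.assoc, hu', ← hu, Category.assoc, IsIso.hom_inv_id, Category.comp_id])
  have hψ : ψ' = ψ := ((IsIso.comp_inv_eq ψ).1 hθ).trans (Category.id_comp _)
  have hΔ : Δ.map ψ = Φ := fp_hom_ext rfl hψ.symm
  refine ⟨fpHom ε ψ ?_, hε⟩
  rw [hΔ]
  simp [Φ]

section Sections

variable {𝒵 : AlgSt.Cat S} {F : AlgSp.Sp S} {e : AlgSt.ofSp F ⥤ᵇ 𝒵}

/-- The object of the sheaf of a section. -/
def secObj {D : Over S} (σ : (AlgSp.yon S).obj D ⟶ F) : (AlgSt.ofSp F).obj := ⟨D, yEquiv σ⟩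

theorem secObj_base {D : Over S} (σ : (AlgSp.yon S).obj D ⟶ F) :
    (AlgSt.ofSp F).p.obj (secObj σ) = D := rfl

theorem eq_of_vert (he : FibCat.IsEquivOver e) {D : Over S} {σ σ' : (AlgSp.yon S).obj D ⟶ F}
    (φ : e.obj (secObj σ) ⟶ e.obj (secObj σ')) (hφ : IsVert 𝒵.p φ) : σ = σ' := by
  have := full_of_isEquivOver he
  obtain ⟨ψ, rfl⟩ := e.toFunctor.map_surjective φ
  have hψ := (isVert_of_map hφ).map_eq
  have hψ' : ψ.hom = 𝟙 D := hψ
  apply yEquiv.injective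
  have h := ψ.map_sec
  rw [hψ'] at h
  exact (h.symm.trans (map_op_id _ _ rfl _))

theorem exists_secObj (he : FibCat.IsEquivOver e) {D : Over S} (p : 𝒵.obj) (hp : 𝒵.p.obj p = D) :
    ∃ (σ : (AlgSp.yon S).obj D ⟶ F) (φ : e.obj (secObj σ) ⟶ p), IsVert 𝒵.p φ := by
  obtain ⟨⟨D', s⟩, φ, hφ⟩ := exists_vert_preimage he p
  obtain rfl : D' = D := ((e.w_obj _).symm.trans hφ.obj_eq).trans hp
  obtain ⟨σ, rfl⟩ := yEquiv.surjective s
  exact ⟨σ, φ.hom, hφ⟩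

/-- The restriction of a section. -/
def resHom {D₀ D : Over S} (i : D₀ ⟶ D) (σ : (AlgSp.yon S).obj D ⟶ F) :
    secObj ((AlgSp.yon S).map i ≫ σ) ⟶ secObj σ :=
  eltHom (a := secObj ((AlgSp.yon S).map i ≫ σ)) (b := secObj σ) i
    ((AlgSp.J S).uliftYonedaEquiv_naturality σ i)

theorem map_resHom {D₀ D : Over S} (i : D₀ ⟶ D) (σ : (AlgSp.yon S).obj D ⟶ F) :
    𝒵.p.map (e.map (resHom i σ)) =
      eqToHom (e.w_obj _) ≫ i ≫ eqToHom (e.w_obj (secObj σ)).symm :=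
  map_map e _

theorem exists_res {D₀ D : Over S} (i : D₀ ⟶ D) {σ : (AlgSp.yon S).obj D ⟶ F}
    {τ : (AlgSp.yon S).obj D₀ ⟶ F} (h : (AlgSp.yon S).map i ≫ σ = τ) :
    ∃ m : e.obj (secObj τ) ⟶ e.obj (secObj σ),
      𝒵.p.map m = eqToHom (e.w_obj _) ≫ i ≫ eqToHom (e.w_obj (secObj σ)).symm := by
  subst h
  exact ⟨_, map_resHom i σ⟩

end Sections

variable {f : 𝒳 ⥤ᵇ 𝒴} {T : Over S} {y : FibCat.overCat T ⥤ᵇ FibCat.fp f f} {F : AlgSp.Sp S}
  {e : AlgSt.ofSp F ⥤ᵇ FibCat.fp y (FibCat.diag f)} {D : Over S}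

theorem proj_eq (σ : (AlgSp.yon S).obj D ⟶ F) :
    σ ≫ AlgSt.spMapOfOver (BasedFunctor.comp e (FibCat.fpFst y (FibCat.diag f))) =
      (AlgSp.yon S).map (eqToHom ((BasedFunctor.comp e (FibCat.fpFst y (FibCat.diag f))).w_obj
        (secObj σ)).symm ≫ (e.obj (secObj σ)).obj.fst.hom) := by
  apply yEquiv.injective
  refine ((AlgSp.J S).uliftYonedaEquiv_comp σ _).trans ?_
  refine Eq.trans ?_ (GrothendieckTopology.uliftYonedaEquiv_uliftYoneda_map.{u + 1} (AlgSp.J S) _).symm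
  rfl

/-- Sections over the same point of the base have vertically isomorphic first components. -/
theorem exists_vert_fst {σ σ' : (AlgSp.yon S).obj D ⟶ F}
    (h : σ ≫ AlgSt.spMapOfOver (BasedFunctor.comp e (FibCat.fpFst y (FibCat.diag f))) =
      σ' ≫ AlgSt.spMapOfOver (BasedFunctor.comp e (FibCat.fpFst y (FibCat.diag f)))) :
    ∃ ε : (e.obj (secObj σ)).obj.fst ⟶ (e.obj (secObj σ')).obj.fst, IsVert (FibCat.overCat T).p ε := by
  rw [proj_eq, proj_eq] at h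
  have h' := (AlgSp.yon S).map_injective h
  let w := (BasedFunctor.comp e (FibCat.fpFst y (FibCat.diag f))).w_obj
  have hw : (e.obj (secObj σ)).obj.fst.left = (e.obj (secObj σ')).obj.fst.left :=
    (w (secObj σ)).trans (w (secObj σ')).symm
  refine ⟨Over.homMk (eqToHom hw) ?_, ⟨hw, rfl⟩⟩
  rw [← cancel_epi (eqToHom (w (secObj σ)).symm), h', ← Category.assoc, eqToHom_trans]

theorem proj_eq_of_vert {σ σ' : (AlgSp.yon S).obj D ⟶ F}
    (ε : (e.obj (secObj σ)).obj.fst ⟶ (e.obj (secObj σ')).obj.fst)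
    (hε : IsVert (FibCat.overCat T).p ε) :
    σ ≫ AlgSt.spMapOfOver (BasedFunctor.comp e (FibCat.fpFst y (FibCat.diag f))) =
      σ' ≫ AlgSt.spMapOfOver (BasedFunctor.comp e (FibCat.fpFst y (FibCat.diag f))) := by
  rw [proj_eq, proj_eq]
  congr 1
  have h₁ : ε.left = eqToHom hε.obj_eq := hε.map_eq
  rw [← Over.w ε, h₁, ← Category.assoc, eqToHom_trans]

theorem eqToHom_sandwich {C : Type*} [Category C] {A A' B B' B'' : C} (h₁ : A = A') (i : A' ⟶ B)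
    (h₂ : B = B') (h₃ : B' = B'') (h₄ : B = B'') {u : A ⟶ B'} (hu : u = eqToHom h₁ ≫ i ≫ eqToHom h₂)
    {w : B' ⟶ B''} (hw : w = eqToHom h₃) {v : A ⟶ B''} (hv : v = eqToHom h₁ ≫ i ≫ eqToHom h₄) :
    u ≫ w = v := by
  subst hu hw hv h₁ h₂ h₃
  simp

theorem overCat_comp_eq {T D₀ D : Over S} (i : D₀ ⟶ D) {a b c : (FibCat.overCat T).obj}
    (h₁ : a.left = D₀) (h₂ : D = b.left) (h₄ : D = c.left) (m : a ⟶ b) (ε : b ⟶ c) (m' : a ⟶ c)
    (hm : m.left = eqToHom h₁ ≫ i ≫ eqToHom h₂) (hε : IsVert (FibCat.overCat T).p ε)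
    (hm' : m'.left = eqToHom h₁ ≫ i ≫ eqToHom h₄) : m ≫ ε = m' := by
  obtain ⟨h₃, he⟩ := hε
  exact Over.OverMorphism.ext (eqToHom_sandwich h₁ i h₂ h₃ h₄ hm he hm')

theorem repWith_lft_diag' (hX : FibCat.IsFibGrpd 𝒳.p) (hY : FibCat.IsFibGrpd 𝒴.p)
    (dX : AlgSt.RepByAlgSp1 (FibCat.diag (FibCat.toSelf 𝒳)))
    (dY : AlgSt.RepByAlgSp1 (FibCat.diag (FibCat.toSelf 𝒴)))
    (hat : AlgSt.HasAtlas (AlgSp.LocP @Smooth) 𝒳) (f : 𝒳 ⥤ᵇ 𝒴) :
    AlgSt.RepByAlgSpWith (AlgSp.LocP @LocallyOfFiniteType) (FibCat.diag f) :=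
  repWith_diag_of_comp (g := FibCat.toSelf 𝒴) hX hY stableBaseChange_locP
    (cancelRight_locP fun _ _ _ a b (hab : LocallyOfFiniteType (a ≫ b)) => locallyOfFiniteType_of_comp a b)
    (repByAlgSp1_diag_of_diag hX hY dX dY f) dY
    (by
      let T := BasedFunctor.comp f (FibCat.toSelf 𝒴)
      let σ : FibCat.toSelf 𝒳 ≅ T := selfIso _ _
      refine repWith_of_iso (f := BasedFunctor.comp (FibCat.diag (FibCat.toSelf 𝒳)) (fpCongr σ σ))
        ?_ ((repWith_postcomp_equiv _ (isEquivOver_fpCongr σ σ)).2 (repWith_lft_diag_toSelf' hX dX hat))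
      exact fpIsoMk (Iso.refl _) (Iso.refl _) fun _ =>
        self_ext ((isVert_map (isVert_id _)).comp (fp_isVert _))
          ((fp_isVert _).comp (isVert_map (isVert_id _))))

/-- A morphism without infinitesimal automorphisms has unramified diagonal. -/
theorem isDMMor_of_noInfAut (hX : FibCat.IsFibGrpd 𝒳.p) (f : 𝒳 ⥤ᵇ 𝒴)
    (hl : AlgSt.RepByAlgSpWith (AlgSp.LocP @LocallyOfFiniteType) (FibCat.diag f))
    (h : ∀ (K : Type u) [Field K] (s : Spec (CommRingCat.of (TrivSqZeroExt K K)) ⟶ S),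
      NoInfAut f (Over.homMk (dualPt K) rfl : Over.mk (dualPt K ≫ s) ⟶ Over.mk s)) :
    AlgSt.IsDMMor f := by
  intro T y
  obtain ⟨F, e, he⟩ := repWith_repByAlgSp1 hl T y
  refine ⟨F, e, he, ?_⟩
  let π := AlgSt.spMapOfOver (BasedFunctor.comp e (FibCat.fpFst y (FibCat.diag f)))
  have hπ : AlgSp.LocP @LocallyOfFiniteType π := prop_of_repWith_fp stableBaseChange_locP hl y F e he
  have hT := AlgSp.IsAlgSpace.yon_obj T
  obtain ⟨N, q, hq, hqs⟩ := F.property.atlas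
  obtain ⟨a, ha⟩ := (AlgSp.yon S).map_surjective (q ≫ π)
  refine locP_of_source_cover F.property hT hq hqs ?_
  rw [← ha]
  have hlft : LocallyOfFiniteType a.left :=
    hπ q (𝟙 _) a hq (AlgSp.repWith_id @Etale T) (by rw [Category.comp_id, ha])
  refine locP_of_repWith ((AlgSp.repWith_yon_map_iff _ a).2
    ⟨hlft, formallyUnramified_of_separates a.left ?_⟩)
  intro K _ g₀ g₁ h₀ hga _
  let s := g₀ ≫ N.hom
  let D : Over S := Over.mk s
  let i : Over.mk (dualPt K ≫ s) ⟶ D := Over.homMk (dualPt K) rfl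
  have : Surjective i.left := ⟨surjective_dualPt K⟩
  let G₀ : D ⟶ N := Over.homMk g₀ rfl
  let G₁ : D ⟶ N := Over.homMk g₁ (by
    show g₁ ≫ N.hom = g₀ ≫ N.hom
    rw [← Over.w a, reassoc_of% hga])
  have hG : G₀ ≫ a = G₁ ≫ a := Over.OverMorphism.ext hga
  have hiG : i ≫ G₀ = i ≫ G₁ := Over.OverMorphism.ext h₀
  suffices hG' : G₀ = G₁ from congrArg Over.Hom.left hG'
  apply (AlgSp.yon S).map_injective
  refine eq_of_unramified_lifts (AlgSp.IsAlgSpace.yon_obj N) F.property (π := q)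
    (locP_of_repWith (Groth.AlgSpBasic.repWith_mono etale_le_unramified hq)) i ?_
    (by rw [← Functor.map_comp, ← Functor.map_comp, hiG])
  let σ₀ := (AlgSp.yon S).map G₀ ≫ q
  let σ₁ := (AlgSp.yon S).map G₁ ≫ q
  have hσ : σ₀ ≫ π = σ₁ ≫ π := by
    simp only [σ₀, σ₁, Category.assoc, ← ha, ← Functor.map_comp, hG]
  have hiσ : (AlgSp.yon S).map i ≫ σ₁ = (AlgSp.yon S).map i ≫ σ₀ := by
    simp only [σ₀, σ₁, ← Category.assoc, ← Functor.map_comp, hiG]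
  obtain ⟨ε, hε⟩ := exists_vert_fst hσ
  obtain ⟨m₀, hm₀⟩ := exists_res (e := e) i (σ := σ₀) rfl
  obtain ⟨m₁, hm₁⟩ := exists_res (e := e) i (σ := σ₁) hiσ
  have hb : ∀ σ : (AlgSp.yon S).obj D ⟶ F.obj, (e.obj (secObj σ)).obj.fst.left = D := fun σ =>
    e.w_obj (secObj σ)
  replace hm₀ : m₀.hom.fst.left = eqToHom (e.w_obj _) ≫ i ≫ eqToHom (hb σ₀).symm := hm₀
  replace hm₁ : m₁.hom.fst.left = eqToHom (e.w_obj _) ≫ i ≫ eqToHom (hb σ₁).symm := hm₁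
  obtain ⟨φ, hφ⟩ := exists_vert_of_restrict hX f y (h K s) m₀ m₁ (e.w_obj _) (hb σ₀) hm₀ ε hε
    (overCat_comp_eq i (e.w_obj _) (hb σ₀).symm (hb σ₁).symm m₀.hom.fst ε m₁.hom.fst hm₀ hε hm₁)
  exact eq_of_vert he φ hφ

/-- A morphism with unramified diagonal has no infinitesimal automorphisms. -/
theorem noInfAut_of_isDMMor (hX : FibCat.IsFibGrpd 𝒳.p) (hY : FibCat.IsFibGrpd 𝒴.p) (f : 𝒳 ⥤ᵇ 𝒴)
    (h : AlgSt.IsDMMor f) {D₀ : Over S} (i : D₀ ⟶ D) [Surjective i.left] : NoInfAut f i := by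
  intro x z hx hz v hv θ hθ hfθ hvθ
  let xt := overFunctor hX x hx
  obtain ⟨j, hj⟩ := overFunctor_eval hX x hx
  let y : FibCat.overCat D ⥤ᵇ FibCat.fp f f := BasedFunctor.comp xt (FibCat.diag f)
  let Δ := FibCat.diag f
  let x₁ := xt.obj (idObj D)
  let θ₁ : x₁ ⟶ x₁ := j.hom ≫ θ ≫ j.inv
  have hθ₁ : IsVert 𝒳.p θ₁ := hj.comp (hθ.comp hj.inv)
  have hfθ₁ : f.map θ₁ = 𝟙 _ := by
    rw [f.toFunctor.map_comp, f.toFunctor.map_comp, hfθ, Category.id_comp, ← f.toFunctor.map_comp,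
      j.hom_inv_id]
    exact f.toFunctor.map_id _
  have := hθ₁.isIso hX
  let e₁ : Δ.obj x₁ ≅ Δ.obj x₁ := fpObjIso (Iso.refl _) (asIso θ₁) (by
    show f.map (𝟙 x₁) ≫ 𝟙 _ = 𝟙 _ ≫ f.map θ₁
    rw [hfθ₁, CategoryTheory.Functor.map_id])
  let g : (FibCat.overCat D).obj := (AlgSt.overMap i).obj (idObj D₀)
  have hg : (toId g).left = i := Category.id_comp i
  let v₁ := xt.map (toId g)
  have hv₁ : v₁ ≫ θ₁ = v₁ := by
    show v₁ ≫ j.hom ≫ θ ≫ j.inv = v₁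
    rw [← Category.assoc, ← Category.assoc, Iso.comp_inv_eq]
    refine comp_eq_of_lifts hX v _ ((xt.w_obj g).trans hz.symm) ?_ hvθ
    rw [Functor.map_comp, map_map, hj.map_eq, hv, overCat_map, hg]
    simp
  let p₀ : (FibCat.fp y Δ).obj := fpMk (idObj D) x₁ (Iso.refl _) (isVert_id _)
  let p₁ : (FibCat.fp y Δ).obj := fpMk (idObj D) x₁ e₁ (isVert_id _)
  let c : (FibCat.fp y Δ).obj := fpMk g (xt.obj g) (Iso.refl _) (isVert_id _)
  let m₀ : c ⟶ p₀ := fpHom (x := c) (y := p₀) (toId g) v₁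
    ((Category.comp_id _).trans (Category.id_comp _).symm)
  let m₁ : c ⟶ p₁ := fpHom (x := c) (y := p₁) (toId g) v₁ (by
    refine fp_hom_ext ?_ ?_
    · exact (Category.comp_id _).trans (Category.id_comp _).symm
    · exact hv₁.trans (Category.id_comp _).symm)
  obtain ⟨F, e, he, hπ⟩ := h D y
  obtain ⟨σ₀, φ₀, hφ₀⟩ := exists_secObj he p₀ (D := D) rfl
  obtain ⟨σ₁, φ₁, hφ₁⟩ := exists_secObj he p₁ (D := D) rfl
  have hF : FibCat.IsFibGrpd (FibCat.fp y Δ).p :=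
    isFibGrpd_fp (isFibGrpd_overCat _) hX (isFibGrpd_fp hX hX hY)
  have := hφ₀.isIso hF
  have := hφ₁.isIso hF
  have hπσ : σ₀ ≫ AlgSt.spMapOfOver (BasedFunctor.comp e (FibCat.fpFst y Δ)) =
      σ₁ ≫ AlgSt.spMapOfOver (BasedFunctor.comp e (FibCat.fpFst y Δ)) :=
    proj_eq_of_vert (φ₀.hom.fst ≫ (inv φ₁).hom.fst)
      ((isVert_map (F := FibCat.fpFst y Δ) hφ₀).comp
        (isVert_map (F := FibCat.fpFst y Δ) (IsVert.inv (φ := asIso φ₁) hφ₁)))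
  obtain ⟨k₀, hk₀, -⟩ := exists_vert_iso_of_lifts hF (e.map (resHom i σ₀) ≫ φ₀) m₀
    ((e.w_obj (secObj ((AlgSp.yon S).map i ≫ σ₀))).trans rfl) (by
      show _ = eqToHom _ ≫ (toId g).left
      rw [Functor.map_comp, map_resHom, hφ₀.map_eq, hg]
      simp)
  obtain ⟨k₁, hk₁, -⟩ := exists_vert_iso_of_lifts hF (e.map (resHom i σ₁) ≫ φ₁) m₁
    ((e.w_obj (secObj ((AlgSp.yon S).map i ≫ σ₁))).trans rfl) (by
      show _ = eqToHom _ ≫ (toId g).left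
      rw [Functor.map_comp, map_resHom, hφ₁.map_eq, hg]
      simp)
  have hi : (AlgSp.yon S).map i ≫ σ₀ = (AlgSp.yon S).map i ≫ σ₁ :=
    eq_of_vert he (k₀.hom ≫ k₁.inv) (hk₀.comp hk₁.inv)
  have hσ := eq_of_unramified_lifts F.property (AlgSp.IsAlgSpace.yon_obj D) hπ i hπσ hi
  subst hσ
  let φ : p₀ ⟶ p₁ := inv φ₀ ≫ φ₁
  have hφ : IsVert (FibCat.fp y Δ).p φ := (IsVert.inv (φ := asIso φ₀) hφ₀).comp hφ₁
  have hfst : φ.hom.fst = 𝟙 (idObj D) := by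
    apply Over.OverMorphism.ext
    exact hφ.map_eq
  have h1 : y.map φ.hom.fst = 𝟙 (y.obj (idObj D)) :=
    (congrArg (fun t => y.map t) hfst).trans (y.toFunctor.map_id _)
  have w : e₁.hom = Δ.map φ.hom.snd :=
    ((Category.id_comp e₁.hom).symm.trans ((congrArg (· ≫ e₁.hom) h1.symm).trans φ.hom.w)).trans
      (Category.id_comp _)
  have w₁ : 𝟙 x₁ = φ.hom.snd := congrArg (fun t => t.hom.fst) w
  have w₂ : θ₁ = φ.hom.snd := congrArg (fun t => t.hom.snd) w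
  have hθ₁' : j.hom ≫ θ ≫ j.inv = 𝟙 x₁ := w₂.trans w₁.symm
  rw [← Category.assoc, Iso.comp_inv_eq, Category.id_comp] at hθ₁'
  exact (cancel_epi j.hom).1 (hθ₁'.trans (Category.comp_id _).symm)

end Groth.StackDM
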