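import Mathlib
import Groth.Agent.SmoothSlice.Sections
import Groth.Agent.SmoothSlice.EtaleLocus

/-!
# Etale slices of a pair of smooth maps with unramified pairs
-/

set_option autoImplicit false
set_option backward.isDefEq.respectTransparency false
set_option backward.isDefEq.respectTransparency.types false
universe u

open CategoryTheory CategoryTheory.Limits AlgebraicGeometry TopologicalSpace

namespace Groth.StackDM

open Groth.SmoothSlice

variable {R U : Scheme.{u}}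

/-- The closed point of the dual numbers. -/
noncomputable def dualPt (K : Type u) [Field K] :
    Spec (CommRingCat.of K) ⟶ Spec (CommRingCat.of (TrivSqZeroExt K K)) :=
  Spec.map (CommRingCat.ofHom (TrivSqZeroExt.fstHom K K K).toRingHom)

theorem surjective_dualPt (K : Type u) [Field K] : Function.Surjective (dualPt K) := by
  intro P
  refine ⟨IsLocalRing.closedPoint K, PrimeSpectrum.ext ?_⟩
  show Ideal.comap (TrivSqZeroExt.fstHom K K K).toRingHom (IsLocalRing.maximalIdeal K) = P.asIdeal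
  rw [IsLocalRing.maximalIdeal_eq_bot]
  ext x
  constructor
  · intro hx
    have hx' : x.fst = 0 := hx
    refine P.isPrime.mem_of_pow_mem 2 ?_
    have : x ^ 2 = 0 := by
      rw [pow_two]; ext <;> simp [hx']
    rw [this]; exact zero_mem _
  · intro hx
    show x.fst = 0
    by_contra h
    exact P.isPrime.ne_top (Ideal.eq_top_of_isUnit_mem _ hx
      (TrivSqZeroExt.isUnit_iff_isUnit_fst.2 (isUnit_iff_ne_zero.2 h)))

/-- Two lifts of a point to the dual numbers agree when they agree after an unramified map. -/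
theorem eq_of_formallyUnramified {X Y : Scheme.{u}} (c : X ⟶ Y) [FormallyUnramified c]
    [LocallyOfFiniteType c] {K : Type u} [Field K]
    (g₁ g₂ : Spec (CommRingCat.of (TrivSqZeroExt K K)) ⟶ X)
    (h₀ : dualPt K ≫ g₁ = dualPt K ≫ g₂) (h : g₁ ≫ c = g₂ ≫ c) : g₁ = g₂ := by
  let hp := pullback.lift g₁ g₂ h
  have e : dualPt K ≫ hp = (dualPt K ≫ g₁) ≫ pullback.diagonal c := by
    apply pullback.hom_ext
    · simp [hp]
    · simp only [hp, Category.assoc, pullback.lift_snd, pullback.diagonal_snd, Category.comp_id, h₀]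
  have hrange : Set.range hp ⊆ Set.range (pullback.diagonal c) := by
    rintro _ ⟨z, rfl⟩
    obtain ⟨z', rfl⟩ := surjective_dualPt K z
    refine ⟨(dualPt K ≫ g₁) z', ?_⟩
    rw [← Scheme.Hom.comp_apply, ← e, Scheme.Hom.comp_apply]
  have hl : IsOpenImmersion.lift (pullback.diagonal c) hp hrange ≫ pullback.diagonal c = hp :=
    IsOpenImmersion.lift_fac _ _ _
  have h₁ := congrArg (· ≫ pullback.fst c c) hl
  have h₂ := congrArg (· ≫ pullback.snd c c) hl
  simp only [Category.assoc, pullback.diagonal_fst, pullback.diagonal_snd, Category.comp_id, hp,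
    pullback.lift_fst, pullback.lift_snd] at h₁ h₂
  exact h₁.symm.trans h₂

/-- Lifts to the dual numbers are detected by the two maps. -/
def Separates (s t : R ⟶ U) : Prop :=
  ∀ (K : Type u) [Field K] (g₁ g₂ : Spec (CommRingCat.of (TrivSqZeroExt K K)) ⟶ R),
    dualPt K ≫ g₁ = dualPt K ≫ g₂ → g₁ ≫ s = g₂ ≫ s → g₁ ≫ t = g₂ ≫ t → g₁ = g₂

variable {s t : R ⟶ U}

theorem separates_of_formallyUnramified {S : Scheme.{u}} (p : U ⟶ S)
    (c : R ⟶ pullback p p) [FormallyUnramified c] [LocallyOfFiniteType c]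
    (hs : c ≫ pullback.fst p p = s) (ht : c ≫ pullback.snd p p = t) : Separates s t := by
  intro K _ g₁ g₂ h₀ h₁ h₂
  refine eq_of_formallyUnramified c g₁ g₂ h₀ (pullback.hom_ext ?_ ?_)
  · simpa [hs] using h₁
  · simpa [ht] using h₂

/-- Functions on the target detect derivations relative to the source. -/
theorem derivation_detect (h : Separates s t) {V : U.Opens} (hV : IsAffineOpen V) {B : R.Opens}
    (hB : IsAffineOpen B) (es : B ≤ s ⁻¹ᵁ V) (et : B ≤ t ⁻¹ᵁ V) (K : Type u) [Field K]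
    [Algebra Γ(R, B) K] :
    letI := (s.appLE V B es).hom.toAlgebra
    ∀ [Algebra Γ(U, V) K] [IsScalarTower Γ(U, V) Γ(R, B) K] (D : Derivation Γ(U, V) Γ(R, B) K),
      (∀ c, D (t.appLE V B et c) = 0) → D = 0 := by
  algebraize [(s.appLE V B es).hom]
  intro _ _ D hD
  let g₀ : Γ(R, B) ⟶ CommRingCat.of (TrivSqZeroExt K K) :=
    CommRingCat.ofHom ((TrivSqZeroExt.inlHom K K).comp (algebraMap Γ(R, B) K))
  let gD : Γ(R, B) ⟶ CommRingCat.of (TrivSqZeroExt K K) := CommRingCat.ofHom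
    { toFun := fun b => TrivSqZeroExt.inl (algebraMap Γ(R, B) K b) + TrivSqZeroExt.inr (D b)
      map_one' := by simp
      map_mul' := fun x y => by
        ext
        · simp only [TrivSqZeroExt.fst_mul, TrivSqZeroExt.fst_add, TrivSqZeroExt.fst_inl,
            TrivSqZeroExt.fst_inr, map_mul, add_zero]
        · simp only [TrivSqZeroExt.snd_mul, TrivSqZeroExt.fst_add, TrivSqZeroExt.snd_add,
            TrivSqZeroExt.fst_inl, TrivSqZeroExt.fst_inr, TrivSqZeroExt.snd_inl, TrivSqZeroExt.snd_inr,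
            D.leibniz, Algebra.smul_def, map_mul, op_smul_eq_mul, add_zero, zero_add, Algebra.algebraMap_self, RingHom.id_apply]
          ring
      map_zero' := by simp
      map_add' := fun x y => by rw [map_add, map_add, TrivSqZeroExt.inl_add, TrivSqZeroExt.inr_add]; abel }
  have key : ∀ b : Γ(R, B), D b = 0 → g₀ b = gD b := by
    intro b hb
    show (TrivSqZeroExt.inlHom K K) (algebraMap Γ(R, B) K b) =
      TrivSqZeroExt.inl (algebraMap Γ(R, B) K b) + TrivSqZeroExt.inr (D b)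
    rw [hb, TrivSqZeroExt.inr_zero, add_zero]
    rfl
  have hs : s.appLE V B es ≫ g₀ = s.appLE V B es ≫ gD :=
    CommRingCat.hom_ext (RingHom.ext fun a => key _ (D.map_algebraMap a))
  have ht : t.appLE V B et ≫ g₀ = t.appLE V B et ≫ gD :=
    CommRingCat.hom_ext (RingHom.ext fun a => key _ (hD a))
  have hp : g₀ ≫ CommRingCat.ofHom (TrivSqZeroExt.fstHom K K K).toRingHom =
      gD ≫ CommRingCat.ofHom (TrivSqZeroExt.fstHom K K K).toRingHom := by
    refine CommRingCat.hom_ext (RingHom.ext fun b => ?_)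
    show (TrivSqZeroExt.inl (algebraMap Γ(R, B) K b) : TrivSqZeroExt K K).fst =
      (TrivSqZeroExt.inl (algebraMap Γ(R, B) K b) + TrivSqZeroExt.inr (D b)).fst
    simp
  have e : Spec.map g₀ ≫ hB.fromSpec = Spec.map gD ≫ hB.fromSpec := by
    refine h K _ _ ?_ ?_ ?_
    · simp only [dualPt, ← Category.assoc, ← Spec.map_comp, hp]
    · simp only [Category.assoc, ← hV.SpecMap_appLE_fromSpec s hB es]
      rw [← Spec.map_comp_assoc, ← Spec.map_comp_assoc, hs]
    · simp only [Category.assoc, ← hV.SpecMap_appLE_fromSpec t hB et]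
      rw [← Spec.map_comp_assoc, ← Spec.map_comp_assoc, ht]
  rw [cancel_mono] at e
  have e' := Spec.map_injective e
  refine DFunLike.ext _ _ fun b => ?_
  have e₁ : TrivSqZeroExt.inl (algebraMap Γ(R, B) K b) =
      TrivSqZeroExt.inl (algebraMap Γ(R, B) K b) + TrivSqZeroExt.inr (D b) := congr($e' b)
  have e₂ := congrArg TrivSqZeroExt.snd e₁
  rw [TrivSqZeroExt.snd_add, TrivSqZeroExt.snd_inl, TrivSqZeroExt.snd_inr, zero_add] at e₂
  exact e₂.symm

/-- The image of an etale point of an open immersion is an etale point. -/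
theorem map_mem_etaleOpen {X' X Y : Scheme.{u}} (j : X' ⟶ X) [IsOpenImmersion j] (f : X ⟶ Y)
    {x : X'} (hx : x ∈ etaleOpen (j ≫ f)) : j x ∈ etaleOpen f := by
  obtain ⟨O, hxO, hE⟩ := mem_etaleOpen.1 hx
  refine mem_etaleOpen.2 ⟨(O.ι ≫ j).opensRange, ⟨⟨x, hxO⟩, rfl⟩, ?_⟩
  rw [← Category.assoc, ← IsOpenImmersion.isoOfRangeEq_inv_fac (O.ι ≫ j).opensRange.ι (O.ι ≫ j)
    (by simp), Category.assoc] at hE
  exact (MorphismProperty.cancel_left_of_respectsIso @Etale _ _).mp hE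

/-- A slice through a point of the diagonal. -/
theorem exists_slice_at (hsep : Separates s t) [Smooth s] [Smooth t] {r : R} {u : U} (hs : s r = u)
    (ht : t r = u) :
    ∃ (W : Scheme.{u}) (g : W ⟶ U) (z : ↥(pullback g t)),
      z ∈ etaleOpen (pullback.snd g t ≫ s) ∧ (pullback.snd g t ≫ s) z = u := by
  obtain ⟨_, ⟨V₀ : U.Opens, hV₀, rfl⟩, huV, -⟩ :=
    U.isBasis_affineOpens.exists_subset_of_mem_open (Set.mem_univ u) isOpen_univ
  have hr : r ∈ s ⁻¹ᵁ V₀ ⊓ t ⁻¹ᵁ V₀ :=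
    ⟨show s r ∈ V₀ by rw [hs]; exact huV, show t r ∈ V₀ by rw [ht]; exact huV⟩
  obtain ⟨_, ⟨B : R.Opens, hB, rfl⟩, hrB, hBsub⟩ :=
    R.isBasis_affineOpens.exists_subset_of_mem_open hr (s ⁻¹ᵁ V₀ ⊓ t ⁻¹ᵁ V₀).2
  have es : B ≤ s ⁻¹ᵁ V₀ := fun x hx => (hBsub hx).1
  have et : B ≤ t ⁻¹ᵁ V₀ := fun x hx => (hBsub hx).2
  obtain ⟨n, hn, O, k, c', hk, o, hki, hko, hc, he⟩ :=
    exists_etale_nbhd_affineSpace s r hV₀ hB es hrB (Set.range (t.appLE V₀ B et))
      (by
        algebraize [(s.appLE V₀ B es).hom]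
        intro D hD
        exact derivation_detect hsep hV₀ hB es et _ D fun a => hD _ ⟨a, rfl⟩)
  choose c hc using hc
  let c₀ : n → Γ((V₀ : Scheme.{u}), ⊤) := fun i => V₀.ι.appLE V₀ ⊤ (by simp) (c i)
  let φ : O ⟶ 𝔸(n; U) := AffineSpace.homOfVector (k ≫ s) fun i => k.appLE B ⊤ hk (c' i)
  have : Etale φ := he
  let tO : O ⟶ (V₀ : Scheme.{u}) := IsOpenImmersion.lift V₀.ι (k ≫ t) (by
    rintro _ ⟨z, rfl⟩
    rw [Scheme.Opens.range_ι, Scheme.Hom.comp_apply]
    exact et (hk trivial))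
  have htO : tO ≫ V₀.ι = k ≫ t := IsOpenImmersion.lift_fac _ _ _
  have hcoord : ∀ i, k.appLE B ⊤ hk (c' i) = tO.appTop (c₀ i) := fun i => by
    rw [← hc i]
    show k.appLE B ⊤ hk (t.appLE V₀ B et (c i)) = tO.appTop (V₀.ι.appLE V₀ ⊤ _ (c i))
    have h2 := congr($(Scheme.Hom.appLE_comp_appLE tO V₀.ι V₀ ⊤ ⊤ (by simp) le_top) (c i))
    have h3 := congr($(Scheme.Hom.appLE_comp_appLE k t V₀ B ⊤ et hk) (c i))
    simp only [htO] at h2
    rw [Scheme.Hom.appTop, ← Scheme.Hom.appLE_eq_app]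
    exact h3.trans h2.symm
  obtain ⟨W₀, i, w, hiE, hiw, A, σ, k', hA, hW'⟩ := exists_etale_slice φ o
  let cm : (V₀ : Scheme.{u}) ⟶ Spec (CommRingCat.of (MvPolynomial n (ULift.{u} ℤ))) :=
    (AffineSpace.toSpecMvPolyIntEquiv n).symm c₀
  have hφ : φ ≫ AffineSpace.toSpecMvPoly n U = tO ≫ cm := by
    rw [AffineSpace.homOfVector_toSpecMvPoly]
    apply (AffineSpace.toSpecMvPolyIntEquiv n).injective
    funext j
    rw [AffineSpace.toSpecMvPolyIntEquiv_comp, Equiv.apply_symm_apply, Equiv.apply_symm_apply]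
    exact hcoord j
  rw [hφ] at hW'
  let W := pullback cm σ
  let g : W ⟶ U := pullback.fst cm σ ≫ V₀.ι
  let j₁ : W₀ ⟶ W := pullback.lift (i ≫ tO) k' (by rw [Category.assoc, hW'.w])
  have hj₁ : j₁ ≫ pullback.fst cm σ = i ≫ tO := pullback.lift_fst _ _ _
  have sqW : IsPullback i j₁ tO (pullback.fst cm σ) := by
    refine IsPullback.of_bot ?_ hj₁.symm (IsPullback.of_hasPullback cm σ)
    convert hW' using 1
    exact pullback.lift_snd _ _ _
  let m := pullback.map (pullback.fst cm σ) tO g t (𝟙 W) k V₀.ι (Category.id_comp _).symm htO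
  let j : W₀ ⟶ pullback g t := sqW.flip.isoPullback.hom ≫ m
  have hj : j ≫ pullback.snd g t = i ≫ k := by
    simp only [j, m, pullback.map, Category.assoc, pullback.lift_snd]
    rw [← Category.assoc, sqW.flip.isoPullback_hom_snd]
  have hjs : j ≫ pullback.snd g t ≫ s = i ≫ φ ≫ (𝔸(n; U) ↘ U) := by
    rw [reassoc_of% hj, AffineSpace.homOfVector_over]
  refine ⟨W, g, j w, map_mem_etaleOpen j _ (mem_etaleOpen.2 ⟨⊤, trivial, ?_⟩), ?_⟩
  · rw [hjs]
    have := hiE
    infer_instance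
  · rw [← Scheme.Hom.comp_apply, hjs, hiw, AffineSpace.homOfVector_over, Scheme.Hom.comp_apply,
      hko, hs]

/-- A scheme over the target whose etale part covers both the scheme and the source. -/
theorem exists_slice (hsep : Separates s t) [Smooth s] [Smooth t]
    (hdiag : ∀ u : U, ∃ r : R, s r = u ∧ t r = u) :
    ∃ (W : Scheme.{u}) (g : W ⟶ U),
      (∀ v : W, ∃ z ∈ etaleOpen (pullback.snd g t ≫ s), pullback.fst g t z = v) ∧
      ∀ u : U, ∃ z ∈ etaleOpen (pullback.snd g t ≫ s), (pullback.snd g t ≫ s) z = u := by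
  choose r hr₁ hr₂ using hdiag
  choose W g z hz hzu using fun u => exists_slice_at hsep (hr₁ u) (hr₂ u)
  let G : (∐ W) ⟶ U := Sigma.desc g
  let E := etaleOpen (pullback.snd G t ≫ s)
  let L : ∀ u, pullback (g u) t ⟶ pullback G t := fun u =>
    pullback.map (g u) t G t (Sigma.ι W u) (𝟙 R) (𝟙 U) (by simp [G]) (by simp)
  have hL : ∀ u, L u ≫ pullback.snd G t ≫ s = pullback.snd (g u) t ≫ s := fun u => by
    simp [L]
  have hcov : ∀ u, ∃ q ∈ E, (pullback.snd G t ≫ s) q = u := fun u =>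
    ⟨L u (z u), map_mem_etaleOpen (L u) _ (by rw [hL]; exact hz u),
      by rw [← Scheme.Hom.comp_apply, hL]; exact hzu u⟩
  have hopen : IsOpen (pullback.fst G t '' (E : Set ↥(pullback G t))) :=
    (pullback.fst G t).isOpenMap _ E.2
  let O : (∐ W).Opens := ⟨_, hopen⟩
  let J : pullback (O.ι ≫ G) t ⟶ pullback G t :=
    pullback.map (O.ι ≫ G) t G t O.ι (𝟙 R) (𝟙 U) (by simp) (by simp)
  have hJ : J ≫ pullback.snd G t ≫ s = pullback.snd (O.ι ≫ G) t ≫ s := by simp [J]
  have hpre : ∀ q ∈ E, ∃ p, J p = q ∧ p ∈ etaleOpen (pullback.snd (O.ι ≫ G) t ≫ s) := by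
    intro q hq
    have hrange : q ∈ Set.range J := by
      rw [Scheme.Pullback.range_map]
      exact ⟨⟨⟨_, q, hq, rfl⟩, rfl⟩, ⟨pullback.snd G t q, rfl⟩⟩
    obtain ⟨p, rfl⟩ := hrange
    refine ⟨p, rfl, mem_etaleOpen.2 ⟨J ⁻¹ᵁ E, hq, ?_⟩⟩
    rw [← hJ, ← morphismRestrict_ι_assoc]
    have := Groth.SmoothSlice.etale_etaleOpen (pullback.snd G t ≫ s)
    infer_instance
  refine ⟨O, O.ι ≫ G, fun v => ?_, fun u => ?_⟩
  · obtain ⟨q, hq, hqv⟩ := v.2
    obtain ⟨p, rfl, hp⟩ := hpre q hq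
    refine ⟨p, hp, O.ι.isOpenEmbedding.injective ?_⟩
    rw [← Scheme.Hom.comp_apply, show pullback.fst (O.ι ≫ G) t ≫ O.ι = J ≫ pullback.fst G t by simp [J],
      Scheme.Hom.comp_apply]
    exact hqv
  · obtain ⟨q, hq, hqu⟩ := hcov u
    obtain ⟨p, rfl, hp⟩ := hpre q hq
    exact ⟨p, hp, by rw [← hJ, Scheme.Hom.comp_apply]; exact hqu⟩

end Groth.StackDM
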